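import Groth.Agent.Lib.Flat55.FibreAffine
import Mathlib.AlgebraicGeometry.Morphisms.UniversallyOpen
import Mathlib.AlgebraicGeometry.Morphisms.Flat
import Mathlib.RingTheory.Flat.Localization
import Mathlib.RingTheory.LocalProperties.Reduced

/-!
# A flat scheme with integral fibres over an integral scheme is integral
-/

universe u

open CategoryTheory AlgebraicGeometry TopologicalSpace TensorProduct

namespace Groth.Agent.Lib.PicGen.Integral

open Groth.Agent.Lib

variable {X Y : Scheme.{u}} (φ : X ⟶ Y)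

theorem fromSpec_comp {U : X.Opens} (hU : IsAffineOpen U) {V : Y.Opens} (hV : IsAffineOpen V)
    (e : U ≤ φ ⁻¹ᵁ V) :
    letI := (φ.appLE V U e).hom.toAlgebra
    hU.fromSpec ≫ φ = Spec.map (CommRingCat.ofHom (algebraMap Γ(Y, V) Γ(X, U))) ≫ hV.fromSpec :=
  (IsAffineOpen.SpecMap_appLE_fromSpec φ hV hU e).symm

/-- The fibre rings of charts of a morphism with integral fibres are domains or zero. -/
theorem isDomain_fiber (hfib : ∀ y : ↥Y, IsIntegral (φ.fiber y)) {U : X.Opens} (hU : IsAffineOpen U)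
    {V : Y.Opens} (hV : IsAffineOpen V) (e : U ≤ φ ⁻¹ᵁ V) :
    letI := (φ.appLE V U e).hom.toAlgebra
    ∀ (p : Ideal Γ(Y, V)) [p.IsPrime],
      IsDomain (p.Fiber Γ(X, U)) ∨ Subsingleton (p.Fiber Γ(X, U)) := by
  letI := (φ.appLE V U e).hom.toAlgebra
  intro p hp
  obtain ⟨j, hj⟩ := Flat55.FibreAffine.exists_openImmersion φ Γ(Y, V) Γ(X, U) hV.fromSpec hU.fromSpec
    (fromSpec_comp φ hU hV e) ⟨p, hp⟩
  rcases subsingleton_or_nontrivial (p.Fiber Γ(X, U)) with h | h
  · exact Or.inr h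
  haveI := hfib (hV.fromSpec ⟨p, hp⟩)
  haveI : Nonempty (Spec (.of (p.Fiber Γ(X, U)))) :=
    (inferInstance : Nonempty (PrimeSpectrum (p.Fiber Γ(X, U))))
  haveI := isIntegral_of_isOpenImmersion j
  exact Or.inl (((affine_isIntegral_iff (CommRingCat.of (p.Fiber Γ(X, U)))).mp inferInstance))

theorem surjective (hfib : ∀ y : ↥Y, IsIntegral (φ.fiber y)) : Function.Surjective φ := fun y => by
  haveI := hfib y
  exact ⟨φ.fiberι y (genericPoint ↥(φ.fiber y)), by
    have : φ.fiberι y (genericPoint ↥(φ.fiber y)) ∈ φ ⁻¹' {y} := φ.range_fiberι y ▸ ⟨_, rfl⟩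
    exact this⟩

/-- The generic point of a fibre. -/
theorem exists_fibre_gen (hfib : ∀ y : ↥Y, IsIntegral (φ.fiber y)) (y : Y) :
    ∃ g : X, φ g = y ∧ ∀ x, φ x = y → g ⤳ x := by
  haveI := hfib y
  refine ⟨φ.fiberι y (genericPoint ↥(φ.fiber y)), ?_, fun x hx => ?_⟩
  · have : φ.fiberι y (genericPoint ↥(φ.fiber y)) ∈ φ ⁻¹' {y} := φ.range_fiberι y ▸ ⟨_, rfl⟩
    exact this
  · obtain ⟨d, rfl⟩ : x ∈ Set.range (φ.fiberι y) := by rw [φ.range_fiberι]; exact hx
    exact ((genericPoint_spec ↥(φ.fiber y)).specializes (Set.mem_univ d)).map (φ.fiberι y).continuous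

variable [IsIntegral Y] [Flat φ]

theorem isIntegral (hfib : ∀ y : ↥Y, IsIntegral (φ.fiber y)) : IsIntegral X := by
  obtain ⟨g, hg, hgen⟩ := exists_fibre_gen φ hfib (genericPoint ↥Y)
  have hspec : ∀ x, g ⤳ x := fun x => by
    obtain ⟨x', hx', hφ⟩ := Flat.generalizingMap φ ((genericPoint_spec ↥Y).specializes (Set.mem_univ (φ x)))
    exact (hgen x' hφ).trans hx'
  haveI : IrreducibleSpace X := by
    have hgp : IsGenericPoint g (Set.univ : Set X) :=
      Set.eq_univ_of_forall fun x => (hspec x).mem_closure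
    haveI : Nonempty X := ⟨g⟩
    exact { isPreirreducible_univ := hgp.isIrreducible.2, toNonempty := ⟨g⟩ }
  haveI : ∀ x : X, _root_.IsReduced (X.presheaf.stalk x) := fun x => by
    obtain ⟨V, hV, hxV, -⟩ := exists_isAffineOpen_mem_and_subset (X := Y) (x := φ x) (U := ⊤) trivial
    obtain ⟨U, hU, hxU, hUV⟩ := exists_isAffineOpen_mem_and_subset (X := X) (x := x) (U := φ ⁻¹ᵁ V) hxV
    have e : U ≤ φ ⁻¹ᵁ V := hUV
    letI := (φ.appLE V U e).hom.toAlgebra
    haveI : Module.Flat Γ(Y, V) Γ(X, U) := Flat.flat_appLE φ hV hU e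
    haveI : Nonempty (V : Scheme.{u}) := ⟨⟨φ x, hxV⟩⟩
    haveI : IsDomain Γ(Y, V) := inferInstance
    let p : Ideal Γ(Y, V) := ⊥
    haveI : _root_.IsReduced (p.Fiber Γ(X, U)) := by
      rcases isDomain_fiber φ hfib hU hV e p with h | h
      · haveI := h; infer_instance
      · haveI := h; infer_instance
    have hinj : Function.Injective (algebraMap Γ(Y, V) p.ResidueField) := by
      rw [RingHom.injective_iff_ker_eq_bot, Ideal.ker_algebraMap_residueField]
    let i : Γ(X, U) →ₐ[Γ(Y, V)] p.Fiber Γ(X, U) := Algebra.TensorProduct.includeRight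
    haveI : _root_.IsReduced Γ(X, U) := by
      refine isReduced_of_injective i ?_
      exact Algebra.TensorProduct.includeRight_injective hinj
    letI := TopCat.Presheaf.algebra_section_stalk X.presheaf (⟨x, hxU⟩ : U)
    haveI := hU.isLocalization_stalk ⟨x, hxU⟩
    exact isReduced_localizationPreserves (hU.primeIdealOf ⟨x, hxU⟩).asIdeal.primeCompl
      (X.presheaf.stalk x) inferInstance
  haveI := isReduced_of_isReduced_stalk X
  exact isIntegral_of_irreducibleSpace_of_isReduced X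

end Groth.Agent.Lib.PicGen.Integral
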