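import Groth.Agent.Lib.PicGen.Descend
import Groth.Agent.Lib.RefHull.SecHom

/-!
# Descent of invertible modules trivial on the generic fibre
-/

universe u

noncomputable section

open CategoryTheory AlgebraicGeometry TopologicalSpace Opposite

namespace Groth.Agent.Lib.PicGen.Main

open Groth.Agent.Lib Groth.Agent.Lib.RefHull Generic Ord DivSheaf Descend Groth.Agent.Lib.TensorMod

variable {X Y : Scheme.{u}} (φ : X ⟶ Y) [IsIntegral Y] [IsLocallyNoetherian Y] [IsIntegral X]
  [IsLocallyNoetherian X] [Flat φ] (hY : Pi1.IsNormalScheme Y)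

include hY in
theorem exists_descent (hfib : ∀ y : ↥Y, IsIntegral (φ.fiber y))
    (hφ : QuasiCompact φ ∨ LocallyOfFiniteType φ) (L : X.Modules) (hL : PicF.IsInvertible L)
    (hgen : Nonempty ((Scheme.Modules.pullback (φ.fiberι (genericPoint ↥Y))).obj L ≅
      Coh.structureModule (φ.fiber (genericPoint ↥Y)))) :
    ∃ N : Y.Modules, PicF.IsInvertible N ∧ Nonempty (L ≅ (Scheme.Modules.pullback φ).obj N) := by
  classical
  have hsurj := Integral.surjective φ hfib
  have hη := map_genericPoint φ hsurj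
  obtain ⟨s, hs'⟩ := GenericSec.exists_generic_section φ (hsurj _) L hgen
  have hgs : ∀ x : X, φ x = genericPoint ↥Y → Works φ hη s 1 x := fun x hx => by
    obtain ⟨e, he, hes⟩ := hs' x hx
    exact ⟨e, he, by rw [map_one, one_smul, hes]⟩
  have hL1 := DivTwist.isRef1_of_isInvertible hL
  have hinj := toGen_injective_of_isReflexive hL1.1 hL1.2.1
  have hs : s ≠ 0 := by
    obtain ⟨e, he, hes⟩ := hs' _ hη
    intro h
    rw [h] at hes
    have he0 : e = 0 := hinj _ (hes.trans (map_zero _).symm)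
    obtain ⟨b⟩ := CurveBundle.Coherent.exists_basis_stalk (TensorMod.LocFree.of_isInvertible hL) (genericPoint ↥X)
    rw [he0, Submodule.span_singleton_eq_bot.mpr rfl] at he
    exact b.ne_zero default ((Submodule.mem_bot _).mp (he.ge Submodule.mem_top))
  choose g hg hgg using Integral.exists_fibre_gen φ hfib
  have hgen' : ∀ x, g (φ x) ⤳ x := fun x => hgg (φ x) x rfl
  choose k hk0 hk using fun y : Y => exists_works φ hη s hY hfib hL hs hgs (g y)
  have hkx : ∀ x : X, Works φ hη s (k (φ x)) x := fun x => by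
    obtain ⟨k', hk'0, hk'⟩ := exists_works φ hη s hY hfib hL hs hgs x
    obtain ⟨w, hw, e⟩ := works_unique φ hη s hs (hk0 (φ x))
      (works_specializes φ hη s hL (hgen' x) hk') (hk (φ x))
    have key : ∀ y, y = φ x → (∃ w : Y.presheaf.stalk y, IsUnit w ∧
        algebraMap (Y.presheaf.stalk y) Y.functionField w = k' / k (φ x)) →
        Works φ hη s (k (φ x)) x := by
      rintro y rfl ⟨w, hw, e⟩
      exact works_of_unit φ hη s w hw (by rw [e, div_mul_cancel₀ _ (hk0 _)]) hk'
    exact key _ (hg (φ x)) ⟨w, hw, e⟩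
  have hratio : ∀ {y' y : Y}, y' ⤳ y → ∃ w : Y.presheaf.stalk y', IsUnit w ∧
      algebraMap (Y.presheaf.stalk y') Y.functionField w = k y / k y' := by
    intro y' y h
    obtain ⟨x', hx', e⟩ := Flat.generalizingMap φ (show y' ⤳ φ (g y) by rw [hg]; exact h)
    obtain ⟨w, hw, e'⟩ := works_unique φ hη s hs (hk0 y')
      (works_specializes φ hη s hL hx' (hk y)) (show Works φ hη s (k y') x' by
        have := hkx x'; rwa [e] at this)
    revert w
    rw [e]
    exact fun w hw e' => ⟨w, hw, e'⟩
  let D : Y → ℤ := fun q => Scheme.ord (k q) q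
  have hD : IsDiv D := fun U hU => by
    refine (finite_bad φ hη s hL hgs g hg hgen' hφ hsurj hU).subset ?_
    rintro q ⟨hqU, hq1, hq⟩
    refine ⟨hqU, hq1, fun hw => hq ?_⟩
    obtain ⟨w, hw, e⟩ := works_unique φ hη s hs one_ne_zero (hk q) hw
    rw [div_one] at e
    have h0 := ord_of_isUnit hY (x := φ (g q)) (by rw [hg]; exact hq1) hw
    rw [e, hg] at h0
    exact h0
  -- membership
  have hord : ∀ {q y : Y}, q ⤳ y → Order.coheight q = 1 → Scheme.ord (k y) q = D q := by
    intro q y h hq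
    obtain ⟨w, hw, e⟩ := hratio h
    have h0 := ord_of_isUnit hY hq hw
    rw [e, ord_div (hk0 y) (hk0 q)] at h0
    show _ = Scheme.ord (k q) q
    omega
  have hrange : ∀ (y : Y) (a : Y.functionField), (∀ q, q ⤳ y → Cond D a q) →
      ∃ r, algebraMap (Y.presheaf.stalk y) Y.functionField r = a * k y := by
    intro y a ha
    refine mem_range_of_codim_one hY y _ fun q hq hq1 => ?_
    have hq1' := dim_eq_one_iff.mp hq1
    rcases eq_or_ne a 0 with rfl | ha0
    · exact ⟨0, by rw [map_zero, zero_mul]⟩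
    refine (mem_range_iff hY hq1' (mul_ne_zero ha0 (hk0 y))).mpr ?_
    rw [Scheme.ord_mul ha0 (hk0 y)]
    have := ((ha q hq) hq1').resolve_left ha0
    have := hord hq hq1'
    omega
  let N := divSh hY D
  -- local generators
  have hloc : ∀ y : Y, ∃ (V : Y.Opens) (hy : y ∈ V) (e : Γ(N, V)),
      (∀ z : V, e.1 z = (k y)⁻¹) ∧ Gen.IsGen N V e := by
    intro y
    obtain ⟨U, hU, hyU, -⟩ := exists_isAffineOpen_mem_and_subset (X := Y) (Opens.mem_top y)
    let Bad : Set Y := {q | q ∈ U ∧ Order.coheight q = 1 ∧ Scheme.ord (k y) q ≠ D q}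
    have hfin : Bad.Finite := by
      refine ((hD U hU).union (finite_ord_ne_zero (hX := hY) (hk0 y) hU)).subset ?_
      rintro q ⟨h1, h2, h3⟩
      by_cases hd : D q = 0
      · exact Or.inr ⟨h1, h2, fun h0 => h3 (by rw [h0, hd])⟩
      · exact Or.inl ⟨h1, h2, hd⟩
    have hC : IsClosed (⋃ q ∈ Bad, closure ({q} : Set Y)) :=
      hfin.isClosed_biUnion fun _ _ => isClosed_closure
    let V : Y.Opens := ⟨(U : Set Y) ∩ (⋃ q ∈ Bad, closure ({q} : Set Y))ᶜ, U.isOpen.inter hC.isOpen_compl⟩
    have hyV : y ∈ V := ⟨hyU, fun hmem => by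
      obtain ⟨q, hq, hqy⟩ := Set.mem_iUnion₂.mp hmem
      exact hq.2.2 (hord (specializes_iff_mem_closure.mpr hqy) hq.2.1)⟩
    have hVD : ∀ q ∈ V, Order.coheight q = 1 → Scheme.ord (k y) q = D q := fun q hq hq1 => by
      by_contra hne
      exact hq.2 (Set.mem_biUnion (show q ∈ Bad from ⟨hq.1, hq1, hne⟩) (subset_closure rfl))
    have hcond : ∀ q ∈ V, Cond D (k y)⁻¹ q := fun q hq hq1 => Or.inr (by
      rw [ord_inv (hk0 y), hVD q hq hq1]; omega)
    refine ⟨V, hyV, mkSec _ hcond, fun z => rfl, fun V' hV' => ⟨fun r r' hrr => ?_, fun m => ?_⟩⟩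
    · refine TopCat.Presheaf.section_ext Y.sheaf V' r r' fun z hz => ?_
      refine IsFractionRing.injective (Y.presheaf.stalk z) Y.functionField ?_
      have h := congrArg (fun t : Γ(N, V') => (t.1 ⟨z, hz⟩ : Y.functionField)) hrr
      exact mul_right_cancel₀ (inv_ne_zero (hk0 y)) h
    · by_cases hηV : genericPoint ↥Y ∈ V'
      · obtain ⟨q, hq⟩ := DivSheaf.exists_function hηV ((show Y.functionField from m.1 ⟨_, hηV⟩) * k y)
          fun z hz => by
            obtain ⟨r, hr⟩ := hrange z (m.1 ⟨_, hηV⟩) fun p hp => by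
              have hpV := hp.mem_open V'.isOpen hz
              rw [← sec_const m hηV ⟨p, hpV⟩]
              exact sec_cond m ⟨p, hpV⟩
            obtain ⟨u, hu, e⟩ : ∃ u : Y.presheaf.stalk z, IsUnit u ∧
                algebraMap (Y.presheaf.stalk z) Y.functionField u = k y / k z := by
              obtain ⟨a, ha⟩ := mem_range_of_codim_one hY z (k y / k z) fun p hp hp1 => by
                have hp1' := dim_eq_one_iff.mp hp1
                refine (mem_range_iff hY hp1' (div_ne_zero (hk0 y) (hk0 z))).mpr ?_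
                rw [ord_div (hk0 y) (hk0 z), hVD p (hV' (hp.mem_open V'.isOpen hz)) hp1', hord hp hp1']
                omega
              obtain ⟨b, hb⟩ := mem_range_of_codim_one hY z (k z / k y) fun p hp hp1 => by
                have hp1' := dim_eq_one_iff.mp hp1
                refine (mem_range_iff hY hp1' (div_ne_zero (hk0 z) (hk0 y))).mpr ?_
                rw [ord_div (hk0 z) (hk0 y), hVD p (hV' (hp.mem_open V'.isOpen hz)) hp1', hord hp hp1']
                omega
              refine ⟨a, IsUnit.of_mul_eq_one b (IsFractionRing.injective (Y.presheaf.stalk z) Y.functionField ?_), ha⟩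
              have := hk0 y
              have := hk0 z
              rw [map_mul, ha, hb, map_one]
              field_simp
            exact ⟨r * u, by rw [map_mul, hr, e, mul_assoc, mul_div_cancel₀ _ (hk0 z)]⟩
        refine ⟨q, Subtype.ext (funext fun z => ?_)⟩
        show algebraMap (Y.presheaf.stalk z.1) Y.functionField (Y.presheaf.germ V' z.1 z.2 q) * (k y)⁻¹ = m.1 z
        rw [algebraMap_germ, sec_const m hηV z, hq, mul_assoc, mul_inv_cancel₀ (hk0 y), mul_one]
      · exact ⟨0, Subtype.ext (funext fun z => absurd ((spec z.1).mem_open V'.isOpen z.2) hηV)⟩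
  have hN : PicF.IsInvertible N := Gen.isInvertible_iff.mpr fun y => by
    obtain ⟨V, hy, e, -, he⟩ := hloc y
    exact ⟨V, e, hy, he⟩
  -- the morphism to the direct image
  have hpt : ∀ (V : Y.Opens) (m : Γ(N, V)) (x : X) (hx : φ x ∈ V),
      ∃ v : L.presheaf.stalk x, toGen L x v = j φ hη (m.1 ⟨φ x, hx⟩) • s := by
    intro V m x hx
    obtain ⟨r, hr⟩ := hrange (φ x) (m.1 ⟨φ x, hx⟩) fun p hp => by
      have hpV := hp.mem_open V.isOpen hx
      have hηV := (spec (φ x)).mem_open V.isOpen hx
      rw [sec_const m hηV ⟨φ x, hx⟩, ← sec_const m hηV ⟨p, hpV⟩]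
      exact sec_cond m ⟨p, hpV⟩
    obtain ⟨e, -, he⟩ := hkx x
    refine ⟨(φ.stalkMap x).hom r • e, ?_⟩
    rw [toGen_smul, ← j_algebraMap φ hη, hr, map_mul, mul_smul, he]
  choose v hv using hpt
  have hsec : ∀ (V : Y.Opens) (m : Γ(N, V)), ∃ n : Γ(L, φ ⁻¹ᵁ V), ∀ x : (φ ⁻¹ᵁ V : X.Opens),
      L.presheaf.germ (φ ⁻¹ᵁ V) x.1 x.2 n = v V m x.1 x.2 := by
    intro V m
    refine SecHom.exists_glue _ _ fun x => ?_
    obtain ⟨W, hxW, n, hn⟩ := TopCat.Presheaf.exists_germ_eq L.presheaf (v V m x.1 x.2)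
    refine ⟨W ⊓ φ ⁻¹ᵁ V, Opens.mem_inf.mpr ⟨hxW, x.2⟩, inf_le_right,
      TensorMod.Dual.rs L inf_le_left n, fun z => hinj z.1 ?_⟩
    refine (hv V m z.1 _).trans ?_
    rw [SecHom.germ_rs, toGen_germ]
    have e := hv V m x.1 x.2
    rw [← hn, toGen_germ] at e
    rw [e]
    have hηV := (spec (φ x.1)).mem_open V.isOpen x.2
    exact congrArg (fun a : Y.functionField => j φ hη a • s)
      ((sec_const m hηV ⟨φ z.1, _⟩).trans (sec_const m hηV ⟨φ x.1, x.2⟩).symm)
  choose n hn using hsec
  have hG : ∀ (V : Y.Opens) (m : Γ(N, V)) (x : X) (hx : φ x ∈ V),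
      toGen L x (L.presheaf.germ (φ ⁻¹ᵁ V) x hx (n V m)) = j φ hη (m.1 ⟨φ x, hx⟩) • s := fun V m x hx =>
    (congrArg (toGen L x) (hn V m ⟨x, hx⟩)).trans (hv V m x hx)
  let P := (Scheme.Modules.pushforward φ).obj L
  have hadd : ∀ V a b, n V (a + b) = n V a + n V b := fun V a b => SecHom.sec_ext fun x hx => hinj x (by
    rw [map_add, map_add]
    refine (hG V (a + b) x hx).trans (Eq.trans ?_ (congrArg₂ (· + ·) (hG V a x hx) (hG V b x hx)).symm)
    exact (congrArg (· • s) (map_add (j φ hη) _ _)).trans (add_smul _ _ _))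
  let app : ∀ V : Y.Opens, Γ(N, V) →+ Γ(P, V) := fun V => AddMonoidHom.mk' (n V) (hadd V)
  let ψ : N ⟶ P := ⟨PresheafOfModules.homMk
    { app := fun V => AddCommGrpCat.ofHom (app V.unop)
      naturality := fun {U V} i => by
        ext m
        refine SecHom.sec_ext (M := L) fun x hx => hinj x ?_
        change toGen L x (L.presheaf.germ _ x hx (n V.unop (N.presheaf.map i m))) =
          toGen L x (L.presheaf.germ _ x hx (L.presheaf.map (((Opens.map φ.base).op).map i) (n U.unop m)))
        refine (hG V.unop _ x hx).trans ?_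
        refine Eq.trans ?_ (congrArg (toGen L x) (TopCat.Presheaf.germ_res_apply' L.presheaf _ x hx _)).symm
        exact (hG U.unop m x (i.unop.le hx)).symm }
    (fun V r m => SecHom.sec_ext (M := L) fun x hx => hinj x (by
      change toGen L x (L.presheaf.germ _ x hx (n V.unop (show Γ(N, V.unop) from r • m))) =
        toGen L x (L.presheaf.germ _ x hx
          ((φ.app V.unop (show Γ(Y, V.unop) from r)) • n V.unop (show Γ(N, V.unop) from m)))
      refine (hG V.unop _ x hx).trans (Eq.trans ?_ ((congrArg (toGen L x)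
        (Mero.germ_smul L (φ ⁻¹ᵁ V.unop) x hx (φ.app V.unop r) (n V.unop m))).trans (toGen_smul x _ _)).symm)
      refine Eq.trans ?_ (congrArg (_ • ·) (hG V.unop m x hx)).symm
      rw [smul_smul]
      refine congrArg (· • s) ?_
      have e : algebraMap (X.presheaf.stalk x) X.functionField
          (X.presheaf.germ (φ ⁻¹ᵁ V.unop) x hx (φ.app V.unop r)) =
          j φ hη (algebraMap (Y.presheaf.stalk (φ x)) Y.functionField (Y.presheaf.germ V.unop (φ x) hx r)) := by
        rw [j_algebraMap]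
        exact congrArg _ (Scheme.Hom.germ_stalkMap_apply φ V.unop x hx r).symm
      refine Eq.trans ?_ (congrArg (· * _) e).symm
      exact map_mul (j φ hη) _ _))⟩
  let ψ' : (Scheme.Modules.pullback φ).obj N ⟶ L :=
    ((Scheme.Modules.pullbackPushforwardAdjunction φ).homEquiv N L).symm ψ
  refine ⟨N, hN, ?_⟩
  have hpb : PicF.IsInvertible ((Scheme.Modules.pullback φ).obj N) :=
    TensorMod.LocFree.isInvertible_of_rank_one
      (TensorMod.LocFree.rank_pullback φ (TensorMod.LocFree.of_isInvertible hN))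
  have hψ : (Scheme.Modules.pullbackPushforwardAdjunction φ).unit.app N ≫
      (Scheme.Modules.pushforward φ).map ψ' = ψ := by
    exact ((Scheme.Modules.pullbackPushforwardAdjunction φ).homEquiv_unit N L ψ').symm.trans
      (Equiv.apply_symm_apply _ ψ)
  haveI : IsIso ψ' := by
    refine (Modules.StalkModule.isIso_iff_stalkMapₗ_bijective ψ').mpr fun x => ?_
    obtain ⟨V, hxV, e, he, -⟩ := hloc (φ x)
    obtain ⟨e', he', hes⟩ := hkx x
    have hn' : L.presheaf.germ (φ ⁻¹ᵁ V) x hxV (n V e) = e' := hinj x (by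
      rw [hG, he, ← hes, smul_smul, ← map_mul, inv_mul_cancel₀ (hk0 _), map_one, one_smul])
    have hsur : Function.Surjective (Modules.StalkModule.stalkMapₗ ψ' x) := by
      rw [← LinearMap.range_eq_top, eq_top_iff, ← he', Submodule.span_le, Set.singleton_subset_iff]
      refine ⟨((Scheme.Modules.pullback φ).obj N).presheaf.germ (φ ⁻¹ᵁ V) x hxV
        (((Scheme.Modules.pullbackPushforwardAdjunction φ).unit.app N).app V e), ?_⟩
      rw [← hn']
      refine (Modules.StalkModule.stalkMapₗ_germ ψ' hxV _).trans (congrArg _ ?_)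
      have := congrArg (fun f : N ⟶ P => f.app V e) hψ
      exact this
    obtain ⟨b₁⟩ := CurveBundle.Coherent.exists_basis_stalk (TensorMod.LocFree.of_isInvertible hpb) x
    obtain ⟨b₂⟩ := CurveBundle.Coherent.exists_basis_stalk (TensorMod.LocFree.of_isInvertible hL) x
    let c := b₂.equiv b₁ (Equiv.refl _)
    haveI := Module.Finite.of_basis b₁
    have hc := OrzechProperty.bijective_of_surjective_endomorphism
      (c.toLinearMap.comp (Modules.StalkModule.stalkMapₗ ψ' x)) (c.surjective.comp hsur)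
    exact ⟨fun a b h => hc.1 (congrArg c h), hsur⟩
  exact ⟨(asIso ψ').symm⟩

end Groth.Agent.Lib.PicGen.Main
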