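import Groth.Agent.Lib.PicGen.Maximal.Stalks
import Groth.Agent.Lib.TensorMod.HomGlue
import Mathlib.RingTheory.UniqueFactorizationDomain.Multiplicity
import Mathlib.RingTheory.UniqueFactorizationDomain.Basic

/-!
# Invertible modules on opens of the spectrum of a factorial domain
-/

universe u

noncomputable section

open CategoryTheory AlgebraicGeometry TopologicalSpace Opposite

namespace Groth.Agent.Lib.PicGen.OpenUFD

open Groth.Agent.Lib Groth.Agent.Lib.RefHull Generic Maximal.Stalks Groth.Agent.Lib.TensorMod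
open Groth.Agent.Lib.TensorMod.Dual (rs rf rf_rf rs_rs)

/-- A global generator gives a trivialisation. -/
theorem nonempty_iso_of_gen {X : Scheme.{u}} {L : X.Modules} (l : Γ(L, ⊤)) (hl : Gen.IsGen L ⊤ l) :
    Nonempty (L ≅ Coh.structureModule X) := by
  obtain ⟨φ, -⟩ := HomGlue.exists_iso_of_gen (L := L) (M := Coh.structureModule X)
    (U := fun _ : PUnit.{u + 1} => (⊤ : X.Opens)) iSup_const (fun _ => l) (fun _ => hl)
    (fun _ => Gen.one X ⊤) (fun _ => TensorMod.Integral.isGen_one _) fun i j W hi hj c hc => by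
      have hc1 : c = 1 := (hl W hj).1 (by
        show c • rs L hj l = (1 : Γ(X, W)) • rs L hj l
        rw [one_smul]; exact hc.symm)
      rw [hc1, one_smul]
  exact ⟨φ⟩

variable {X : Scheme.{u}} [IsIntegral X] {L : X.Modules}

theorem toGen_injective (hL : PicF.IsInvertible L) (x : X) : Function.Injective (toGen L x) := by
  refine (injective_iff_map_eq_zero _).mpr fun v hv => ?_
  obtain ⟨W, m, hxW, hm⟩ := Gen.isInvertible_iff.mp hL x
  obtain ⟨c, rfl⟩ := Submodule.mem_span_singleton.mp
    (show v ∈ Submodule.span (X.presheaf.stalk x) {L.presheaf.germ W x hxW m} from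
      (span_germ hm hxW).ge Submodule.mem_top)
  rw [toGen_smul, toGen_germ] at hv
  have h0 := eq_zero_of_smul_germ hm ((spec x).mem_open W.isOpen hxW) hv
  rw [IsFractionRing.injective (X.presheaf.stalk x) X.functionField (h0.trans (map_zero _).symm), zero_smul]

/-- A germ at the generic point generating everywhere trivializes. -/
theorem nonempty_iso_of_forall (hL : PicF.IsInvertible L) (s : L.presheaf.stalk (genericPoint ↥X))
    (h : ∀ x : X, ∃ e : L.presheaf.stalk x,
      Submodule.span (X.presheaf.stalk x) {e} = ⊤ ∧ toGen L x e = s) :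
    Nonempty (L ≅ Coh.structureModule X) := by
  choose e he hes using h
  have hloc : ∀ x : X, ∃ (W : X.Opens) (n : Γ(L, W)) (_ : x ∈ W), Gen.IsGen L W n ∧
      ∀ y (hy : y ∈ W), e y = L.presheaf.germ W y hy n := by
    intro x
    obtain ⟨W₁, m, hx₁, hm⟩ := Gen.isInvertible_iff.mp hL x
    obtain ⟨c, hc⟩ := Submodule.mem_span_singleton.mp
      (show e x ∈ _ from (span_germ hm hx₁).ge Submodule.mem_top)
    have hcu : IsUnit c := isUnit_of_smul hL (span_germ hm hx₁) (he x) hc.symm
    obtain ⟨W₂, hx₂, c', rfl⟩ := TopCat.Presheaf.exists_germ_eq X.presheaf c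
    let W : X.Opens := X.basicOpen (rf (inf_le_left : W₂ ⊓ W₁ ≤ W₂) c')
    have hW : W ≤ W₂ ⊓ W₁ := X.basicOpen_le _
    have hxW : x ∈ W := by
      refine (X.mem_basicOpen _ x (Opens.mem_inf.mpr ⟨hx₂, hx₁⟩)).mpr ?_
      rw [SecHom.germ_rf]
      exact hcu
    have hu : IsUnit (rf (hW.trans inf_le_left) c') := by
      have := RingedSpace.isUnit_res_basicOpen X.toRingedSpace (rf (inf_le_left : W₂ ⊓ W₁ ≤ W₂) c')
      rw [← rf_rf inf_le_left hW]
      exact this
    refine ⟨W, rf (hW.trans inf_le_left) c' • rs L (hW.trans inf_le_right) m, hxW,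
      GenLocal.isGen_smul (hm.res _) hu, fun y hy => toGen_injective hL y ?_⟩
    rw [hes, Mero.germ_smul, SecHom.germ_rs, SecHom.germ_rf, toGen_smul, toGen_germ, algebraMap_germ,
      ← hes x, ← hc, toGen_smul, toGen_germ, algebraMap_germ]
  choose W n hxW hn hW using hloc
  obtain ⟨l, hl⟩ := SecHom.exists_glue (M := L) ⊤ (fun y => e y.1) fun x =>
    ⟨W x.1, hxW x.1, le_top, n x.1, fun y => hW x.1 y.1 y.2⟩
  refine nonempty_iso_of_gen l (GenLocal.isGen_of_forall_exists fun x _ => ⟨W x, le_top, hxW x, ?_⟩)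
  rw [show rs L le_top l = n x from SecHom.sec_ext fun y hy => by
    rw [SecHom.germ_rs, hl ⟨y, trivial⟩, hW x y hy]]
  exact hn x

section Spec

variable {R : Type u} [CommRing R] (U : (Spec (CommRingCat.of R)).Opens)

/-- The prime of a point of an open of the spectrum. -/
abbrev pt (x : (U : Scheme.{u})) : PrimeSpectrum R := U.ι x

/-- Elements of the ring in the local rings of an open of the spectrum. -/
def ψ (x : (U : Scheme.{u})) : R →+* (U : Scheme.{u}).presheaf.stalk x :=
  ((U.ι.stalkMap x).hom.comp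
    ((Spec (CommRingCat.of R)).presheaf.germ ⊤ (U.ι x) trivial).hom).comp
      (Scheme.ΓSpecIso (CommRingCat.of R)).inv.hom

theorem isUnit_ψ_iff (x : (U : Scheme.{u})) (r : R) :
    IsUnit (ψ U x r) ↔ r ∉ (pt U x).asIdeal := by
  have h1 : IsUnit (ψ U x r) ↔
      IsUnit (algebraMap R ((Spec.structureSheaf R).presheaf.stalk (pt U x)) r) := by
    constructor
    · intro h
      exact (isUnit_map_iff (U.ι.stalkMap x).hom _).mp h
    · intro h
      exact h.map (U.ι.stalkMap x).hom
  exact h1.trans (IsLocalization.AtPrime.isUnit_to_map_iff ((Spec.structureSheaf R).presheaf.stalk (pt U x)) (pt U x).asIdeal r)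

theorem exists_ψ_mul_eq (x : (U : Scheme.{u})) (c : (U : Scheme.{u}).presheaf.stalk x) :
    ∃ a b : R, b ∉ (pt U x).asIdeal ∧ c * ψ U x b = ψ U x a := by
  obtain ⟨c₀, rfl⟩ := (ConcreteCategory.bijective_of_isIso (U.ι.stalkMap x)).2 c
  obtain ⟨⟨a, b, hb⟩, e⟩ := IsLocalization.surj (M := (pt U x).asIdeal.primeCompl) (S := (Spec.structureSheaf R).presheaf.stalk (pt U x))
    (show (Spec.structureSheaf R).presheaf.stalk (pt U x) from c₀)
  exact ⟨a, b, hb, ((map_mul (U.ι.stalkMap x).hom _ _).symm).trans (congrArg (U.ι.stalkMap x).hom e)⟩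

variable [IsDomain R] [IsIntegral (U : Scheme.{u})]

/-- Elements of the ring in the function field. -/
abbrev κ : R →+* (U : Scheme.{u}).functionField := ψ U (genericPoint ↥(U : Scheme.{u}))

theorem algebraMap_ψ (x : (U : Scheme.{u})) (r : R) :
    algebraMap ((U : Scheme.{u}).presheaf.stalk x) (U : Scheme.{u}).functionField (ψ U x r) = κ U r := by
  show algebraMap _ _ ((U.ι.stalkMap x).hom _) = (U.ι.stalkMap _).hom _
  simp only [RingHom.comp_apply]
  erw [Scheme.Hom.germ_stalkMap_apply, Scheme.Hom.germ_stalkMap_apply, algebraMap_germ]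

theorem κ_injective : Function.Injective (κ U) := by
  refine (injective_iff_map_eq_zero _).mpr fun r hr => ?_
  by_contra h0
  have := (isUnit_ψ_iff U (genericPoint ↥(U : Scheme.{u})) r).mpr ?_
  · rw [show ψ U (genericPoint ↥(U : Scheme.{u})) r = 0 from hr] at this
    exact not_isUnit_zero this
  intro hmem
  -- the generic point lies over the zero ideal
  have hbot : (⟨⊥, Ideal.isPrime_bot⟩ : PrimeSpectrum R) ∈ U :=
    ((PrimeSpectrum.le_iff_specializes (⟨⊥, Ideal.isPrime_bot⟩ : PrimeSpectrum R) _).mp bot_le).mem_open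
      U.isOpen (genericPoint ↥(U : Scheme.{u})).2
  have hs := (spec (X := (U : Scheme.{u})) ⟨_, hbot⟩).map U.ι.continuous
  exact h0 ((Ideal.mem_bot).mp ((PrimeSpectrum.le_iff_specializes _ _).mpr hs hmem))

variable [UniqueFactorizationMonoid R]

/-- `c` is a quotient of two elements prime to `p`. -/
def Coprime (p : R) (c : (U : Scheme.{u}).functionField) : Prop :=
  ∃ a b : R, ¬ p ∣ a ∧ ¬ p ∣ b ∧ c * κ U b = κ U a

theorem Coprime.mul {p : R} (hp : Prime p) {c d : (U : Scheme.{u}).functionField}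
    (hc : Coprime U p c) (hd : Coprime U p d) : Coprime U p (c * d) := by
  obtain ⟨a, b, ha, hb, e⟩ := hc
  obtain ⟨a', b', ha', hb', e'⟩ := hd
  exact ⟨a * a', b * b', fun h => (hp.dvd_or_dvd h).elim ha ha', fun h => (hp.dvd_or_dvd h).elim hb hb',
    by rw [map_mul, map_mul, ← e, ← e']; ring⟩

theorem Coprime.inv {p : R} {c : (U : Scheme.{u}).functionField} (hc : Coprime U p c) :
    Coprime U p c⁻¹ := by
  obtain ⟨a, b, ha, hb, e⟩ := hc
  have ha0 : κ U a ≠ 0 := fun h => ha (by rw [κ_injective U (h.trans (map_zero _).symm)]; exact dvd_zero p)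
  have hb0 : κ U b ≠ 0 := fun h => hb (by rw [κ_injective U (h.trans (map_zero _).symm)]; exact dvd_zero p)
  refine ⟨b, a, hb, ha, ?_⟩
  rw [← e]
  have : c ≠ 0 := fun h => ha0 (by rw [← e, h, zero_mul])
  field_simp

theorem exists_zpow_coprime {p : R} (hp : Prime p) {c : (U : Scheme.{u}).functionField} (hc : c ≠ 0) :
    ∃ n : ℤ, Coprime U p (c * κ U p ^ n) := by
  obtain ⟨a, b, hb', e⟩ := exists_ψ_mul_eq U (genericPoint ↥(U : Scheme.{u})) c
  have hb : b ≠ 0 := fun h => hb' (h ▸ Ideal.zero_mem _)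
  have ha : a ≠ 0 := fun h => by
    rw [h, map_zero, mul_eq_zero] at e
    exact e.elim hc fun h' => hb (κ_injective U (h'.trans (map_zero _).symm))
  obtain ⟨i, a', ha', rfl⟩ := WfDvdMonoid.max_power_factor ha hp.irreducible
  obtain ⟨j, b', hb₁, rfl⟩ := WfDvdMonoid.max_power_factor hb hp.irreducible
  have hp0 : κ U p ≠ 0 := fun h => hp.ne_zero (κ_injective U (h.trans (map_zero _).symm))
  refine ⟨(j : ℤ) - i, a', b', ha', hb₁, ?_⟩
  change c * κ U (p ^ j * b') = κ U (p ^ i * a') at e
  rw [map_mul, map_mul, map_pow, map_pow] at e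
  rw [zpow_sub₀ hp0, zpow_natCast, zpow_natCast]
  field_simp
  linear_combination e

end Spec

section UFD

open UniqueFactorizationMonoid

variable {R : Type u} [CommRing R] [IsDomain R] [UniqueFactorizationMonoid R]

/-- An element all whose prime factors avoid a prime ideal is outside it. -/
theorem notMem_of_forall {a : R} (ha : a ≠ 0) (P : Ideal R) [P.IsPrime]
    (h : ∀ p, Prime p → p ∣ a → p ∉ P) : a ∉ P := by
  induction a using UniqueFactorizationMonoid.induction_on_prime with
  | h₁ => exact absurd rfl ha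
  | h₂ x hx => exact fun hm => Ideal.IsPrime.ne_top ‹_› (Ideal.eq_top_of_isUnit_mem _ hm hx)
  | h₃ x p hx hp ih =>
    intro hm
    rcases Ideal.IsPrime.mem_or_mem ‹_› hm with h' | h'
    · exact h p hp (dvd_mul_right p x) h'
    · exact ih hx (fun q hq hqx => h q hq (hqx.mul_left p)) h'

/-- Every invertible module on an open of the spectrum of a factorial domain is trivial. -/
theorem nonempty_iso (U : (Spec (CommRingCat.of R)).Opens) (L : (U : Scheme.{u}).Modules)
    (hL : PicF.IsInvertible L) : Nonempty (L ≅ Coh.structureModule (U : Scheme.{u})) := by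
  classical
  by_cases hne : Nonempty (U : Scheme.{u})
  swap
  · haveI : IsEmpty (U : Scheme.{u}) := not_nonempty_iff.mp hne
    refine nonempty_iso_of_gen (0 : Γ(L, ⊤)) fun V hV => ⟨fun a b _ => ?_, fun y => ⟨0, ?_⟩⟩
    · exact TopCat.Presheaf.section_ext (U : Scheme.{u}).sheaf V a b fun x _ => (IsEmpty.false x).elim
    · exact SecHom.sec_ext fun x _ => (IsEmpty.false x).elim
  haveI : IsIntegral (U : Scheme.{u}) := isIntegral_of_isOpenImmersion U.ι
  -- basic opens with generators
  have hloc : ∀ x : (U : Scheme.{u}), ∃ (h : R) (e : ∀ y : (U : Scheme.{u}), h ∉ (pt U y).asIdeal →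
      L.presheaf.stalk y) (g : L.presheaf.stalk (genericPoint ↥(U : Scheme.{u}))),
      h ∉ (pt U x).asIdeal ∧ (∀ P : PrimeSpectrum R, h ∉ P.asIdeal → P ∈ U) ∧
      ∀ y hy, Submodule.span ((U : Scheme.{u}).presheaf.stalk y) {e y hy} = ⊤ ∧ toGen L y (e y hy) = g := by
    intro x
    obtain ⟨W, m, hxW, hm⟩ := Gen.isInvertible_iff.mp hL x
    obtain ⟨_, ⟨h, rfl⟩, hxh, hle⟩ :=
      PrimeSpectrum.isTopologicalBasis_basic_opens.exists_subset_of_mem_open
        (show pt U x ∈ U.ι ''ᵁ W from ⟨x, hxW, rfl⟩) (U.ι ''ᵁ W).isOpen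
    have hmem : ∀ y : (U : Scheme.{u}), h ∉ (pt U y).asIdeal → y ∈ W := fun y hy => by
      obtain ⟨y', hy', e⟩ := hle (show pt U y ∈ PrimeSpectrum.basicOpen h from hy)
      exact U.ι.isOpenEmbedding.injective e ▸ hy'
    refine ⟨h, fun y hy => L.presheaf.germ W y (hmem y hy) m,
      L.presheaf.germ W (genericPoint ↥(U : Scheme.{u})) ((spec x).mem_open W.isOpen hxW) m, hxh,
      fun z hz => U.ι_image_le W (hle hz), fun y hy => ⟨span_germ hm _, toGen_germ _ _⟩⟩
  choose h e g hh hhU he using hloc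
  obtain ⟨x₀⟩ := hne
  have hgspan : ∀ x, Submodule.span (U : Scheme.{u}).functionField {g x} = ⊤ := fun x => by
    have := span_specializes hL (spec x) (he x x (hh x)).1
    have h2 := (he x x (hh x)).2
    unfold Generic.toGen at h2
    rw [← h2]
    exact this
  have hh0 : h x₀ ≠ 0 := fun h0 => hh x₀ (h0 ▸ Ideal.zero_mem _)
  -- ratio of generators
  choose c hc using fun x => Submodule.mem_span_singleton.mp
    (show g x₀ ∈ Submodule.span (U : Scheme.{u}).functionField {g x} from (hgspan x).ge Submodule.mem_top)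
  have hc0 : ∀ x, c x ≠ 0 := fun x h0 => by
    have h1 : (1 : (U : Scheme.{u}).functionField) = 0 := smul_left_cancel hL (hgspan x₀) (by
      rw [one_smul, zero_smul, ← hc x, h0, zero_smul])
    exact one_ne_zero h1
  have key : ∀ (p : R), Prime p → ∀ x y, ¬ p ∣ h x → ¬ p ∣ h y →
      Coprime U p (c x / c y) := by
    intro p hp x y hx hy
    let P : PrimeSpectrum R := ⟨Ideal.span {p}, (Ideal.span_singleton_prime hp.ne_zero).mpr hp⟩
    have hP : ∀ {r : R}, r ∈ P.asIdeal ↔ p ∣ r := Ideal.mem_span_singleton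
    have hPU : P ∈ U := hhU x P fun h' => hx (hP.mp h')
    let P' : (U : Scheme.{u}) := ⟨P, hPU⟩
    obtain ⟨ex, hex⟩ : ∃ v, v = e x P' (fun h' => hx (hP.mp h')) := ⟨_, rfl⟩
    obtain ⟨ey, hey⟩ : ∃ v, v = e y P' (fun h' => hy (hP.mp h')) := ⟨_, rfl⟩
    have hx' := he x P' (fun h' => hx (hP.mp h'))
    have hy' := he y P' (fun h' => hy (hP.mp h'))
    rw [← hex] at hx'
    rw [← hey] at hy'
    obtain ⟨d, hd⟩ := Submodule.mem_span_singleton.mp (show ey ∈ _ from hx'.1.ge Submodule.mem_top)
    have hdu : IsUnit d := isUnit_of_smul hL hx'.1 hy'.1 hd.symm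
    obtain ⟨a, b, hb, hab⟩ := exists_ψ_mul_eq U P' d
    have hau : IsUnit (ψ U P' a) := hab ▸ hdu.mul ((isUnit_ψ_iff U P' b).mpr hb)
    refine ⟨a, b, fun h' => (isUnit_ψ_iff U P' a).mp hau (hP.mpr h'), fun h' => hb (hP.mpr h'), ?_⟩
    rw [← algebraMap_ψ U P' a, ← algebraMap_ψ U P' b, ← hab, map_mul]
    congr 1
    refine smul_left_cancel hL (hgspan x) ?_
    rw [div_eq_mul_inv, mul_comm, mul_smul, hc x, ← hx'.2, ← toGen_smul, hd, hy'.2, ← hc y, smul_smul,
      inv_mul_cancel₀ (hc0 y), one_smul, ← hy'.2]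
  -- correct the first generator at the finitely many primes outside its open
  have hfac : ∀ T : Finset (Associates R), ∃ k : (U : Scheme.{u}).functionField, k ≠ 0 ∧
      (∀ p : R, Prime p → Associates.mk p ∈ T → ∀ x, ¬ p ∣ h x → Coprime U p (k * c x)) ∧
      ∀ p : R, Prime p → Associates.mk p ∉ T → Coprime U p k := by
    intro T
    induction T using Finset.induction with
    | empty => exact ⟨1, one_ne_zero, by simp, fun p hp _ => ⟨1, 1, hp.not_dvd_one, hp.not_dvd_one, by simp⟩⟩
    | @insert q T hqT ih =>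
      obtain ⟨k, hk, hin, hout⟩ := ih
      by_cases hq : ∃ p, Prime p ∧ Associates.mk p = q ∧ ∃ x, ¬ p ∣ h x
      · obtain ⟨p, hp, rfl, x, hx⟩ := hq
        obtain ⟨n, hn⟩ := exists_zpow_coprime U hp (mul_ne_zero hk (hc0 x))
        have hp0 : κ U p ≠ 0 := fun h' => hp.ne_zero (κ_injective U (h'.trans (map_zero _).symm))
        have hpow : ∀ p', Prime p' → ¬ Associated p p' → Coprime U p' (κ U p ^ n) := by
          intro p' hp' hne
          have hnd : ¬ p' ∣ p := fun h' => hne (hp'.associated_of_dvd hp h').symm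
          have hbase : ∀ m : ℕ, Coprime U p' (κ U p ^ m) := fun m =>
            ⟨p ^ m, 1, fun h' => hnd (hp'.dvd_of_dvd_pow h'), hp'.not_dvd_one, by simp⟩
          rcases n with m | m
          · simpa using hbase m
          · simpa using (hbase (m + 1)).inv
        refine ⟨k * κ U p ^ n, mul_ne_zero hk (zpow_ne_zero _ hp0), fun p' hp' hmem y hy => ?_,
          fun p' hp' hmem => ?_⟩
        · rcases Finset.mem_insert.mp hmem with heq | hmem'
          · have hass : Associated p' p := Associates.mk_eq_mk_iff_associated.mp heq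
            have hdd : ∀ r, p' ∣ r ↔ p ∣ r := fun r => hass.dvd_iff_dvd_left
            obtain ⟨a, b, ha, hb, e'⟩ := (hn.mul U hp (key p hp y x (fun h' => hy ((hdd _).mpr h')) hx))
            refine ⟨a, b, fun h' => ha ((hdd a).mp h'), fun h' => hb ((hdd b).mp h'), ?_⟩
            rw [← e']
            field_simp [hc0 x]
          · have hne : ¬ Associated p p' := fun h' =>
              hqT (Associates.mk_eq_mk_iff_associated.mpr h' ▸ hmem')
            rw [mul_right_comm]
            exact (hin p' hp' hmem' y hy).mul U hp' (hpow p' hp' hne)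
        · rw [Finset.mem_insert, not_or] at hmem
          exact (hout p' hp' hmem.2).mul U hp'
            (hpow p' hp' fun h' => hmem.1 (Associates.mk_eq_mk_iff_associated.mpr h'.symm))
      · refine ⟨k, hk, fun p hp hmem y hy => ?_, fun p hp hmem => hout p hp fun h' => hmem (Finset.mem_insert_of_mem h')⟩
        rcases Finset.mem_insert.mp hmem with heq | hmem'
        · exact absurd ⟨p, hp, heq, y, hy⟩ hq
        · exact hin p hp hmem' y hy
  obtain ⟨k, hk, hin, hout⟩ := hfac ((factors (h x₀)).map Associates.mk).toFinset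
  refine nonempty_iso_of_forall hL (k • g x₀) fun x => ?_
  have hcop : ∀ p, Prime p → p ∉ (pt U x).asIdeal ∨ Coprime U p (k * c x) := by
    intro p hp
    by_cases hpx : p ∣ h x
    · exact Or.inl fun hm => hh x (Ideal.mem_of_dvd _ hpx hm)
    refine Or.inr ?_
    by_cases hmem : Associates.mk p ∈ ((factors (h x₀)).map Associates.mk).toFinset
    · exact hin p hp hmem x hpx
    · have hp0 : ¬ p ∣ h x₀ := fun hd => by
        obtain ⟨q, hq, hpq⟩ := exists_mem_factors_of_dvd hh0 hp.irreducible hd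
        exact hmem (Multiset.mem_toFinset.mpr
          (Multiset.mem_map.mpr ⟨q, hq, (Associates.mk_eq_mk_iff_associated.mpr hpq).symm⟩))
      have h1 : c x₀ = 1 := smul_left_cancel hL (hgspan x₀) (by rw [hc, one_smul])
      have := key p hp x x₀ hpx hp0
      rw [h1, div_one] at this
      exact (hout p hp hmem).mul U hp this
  -- a reduced fraction
  obtain ⟨a, b, hb, e'⟩ := exists_ψ_mul_eq U (genericPoint ↥(U : Scheme.{u})) (k * c x)
  change (k * c x) * κ U b = κ U a at e'
  have hb0 : b ≠ 0 := fun h' => hb (h' ▸ Ideal.zero_mem _)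
  obtain ⟨a', b', d, hred, rfl, rfl⟩ := exists_reduced_factors' a b hb0
  have hd0 : κ U d ≠ 0 := fun h' => hb0 (by rw [κ_injective U (h'.trans (map_zero _).symm), zero_mul])
  rw [map_mul, map_mul, mul_left_comm] at e'
  have e₁ := mul_left_cancel₀ hd0 e'
  have hb'0 : b' ≠ 0 := right_ne_zero_of_mul hb0
  have ha'0 : a' ≠ 0 := fun h' => by
    rw [h', map_zero, mul_eq_zero] at e₁
    exact e₁.elim (mul_ne_zero hk (hc0 x)) fun h'' => hb'0 (κ_injective U (h''.trans (map_zero _).symm))
  have hfree : ∀ p, Prime p → (p ∣ a' ∨ p ∣ b') → p ∉ (pt U x).asIdeal := by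
    intro p hp hdvd
    rcases hcop p hp with h' | ⟨α, β, hα, hβ, e₂⟩
    · exact h'
    exfalso
    have hcross : a' * β = α * b' := κ_injective U (by rw [map_mul, map_mul, ← e₁, ← e₂]; ring)
    rcases hdvd with hd | hd
    · exact hα ((hp.dvd_or_dvd (hcross ▸ dvd_mul_of_dvd_left hd β)).resolve_right
        fun hb' => hp.not_unit (hred hd hb'))
    · exact hβ ((hp.dvd_or_dvd (hcross.symm ▸ dvd_mul_of_dvd_right hd α)).resolve_left
        fun ha' => hp.not_unit (hred ha' hd))
  have hau : IsUnit (ψ U x a') := (isUnit_ψ_iff U x a').mpr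
    (notMem_of_forall ha'0 _ fun p hp hd => hfree p hp (Or.inl hd))
  have hbu : IsUnit (ψ U x b') := (isUnit_ψ_iff U x b').mpr
    (notMem_of_forall hb'0 _ fun p hp hd => hfree p hp (Or.inr hd))
  refine ⟨(ψ U x a' * (hbu.unit⁻¹ : ((U : Scheme.{u}).presheaf.stalk x)ˣ).1) • e x x (hh x), ?_, ?_⟩
  · rw [Submodule.span_singleton_smul_eq (hau.mul (Units.isUnit _)), (he x x (hh x)).1]
  · rw [toGen_smul, (he x x (hh x)).2, map_mul, algebraMap_ψ, ← e₁, ← hc x, smul_smul]
    congr 1
    rw [mul_assoc, ← algebraMap_ψ U x b', ← map_mul, IsUnit.mul_val_inv, map_one, mul_one]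

end UFD

end Groth.Agent.Lib.PicGen.OpenUFD

namespace Groth.Agent.Lib.PicGen.OpenUFD

open CategoryTheory AlgebraicGeometry

/-- Invertible modules on the spectrum of a field are trivial. -/
theorem nonempty_iso_spec (k : Type u) [Field k] (L : (Spec (CommRingCat.of k)).Modules)
    (hL : PicF.IsInvertible L) : Nonempty (L ≅ Coh.structureModule (Spec (CommRingCat.of k))) := by
  obtain ⟨U, e, hxU, he⟩ := Groth.Agent.Lib.TensorMod.Gen.isInvertible_iff.mp hL (default : PrimeSpectrum k)
  have hU : U = ⊤ := top_unique fun x _ => (Subsingleton.elim (default : PrimeSpectrum k) x) ▸ hxU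
  subst hU
  exact nonempty_iso_of_gen e he

end Groth.Agent.Lib.PicGen.OpenUFD
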