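import Groth.Agent.Lib.RefHull.Generic
import Groth.Agent.Lib.DerivedOX.PullbackStalk
import Groth.Agent.H56.SpecStalk
import Groth.Agent.Lib.AssPt.Basic
import Mathlib.AlgebraicGeometry.Fiber

/-!
# A rational section generating over the generic fibre
-/

universe u

noncomputable section

open CategoryTheory AlgebraicGeometry TopologicalSpace Opposite
open scoped TensorProduct

namespace Groth.Agent.Lib.PicGen.GenericSec

open Groth.Agent.Lib Groth.Agent.Lib.DerivedOX.PullbackStalk RefHull.Generic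

variable {X Y : Scheme.{u}} (φ : X ⟶ Y) [IsIntegral Y]

theorem flat_fiberι [Flat φ] : Flat (φ.fiberι (genericPoint ↥Y)) := by
  haveI : IsIso (Y.residue (genericPoint ↥Y)) :=
    (ConcreteCategory.isIso_iff_bijective _).mpr
      ⟨RingHom.injective (R := Y.functionField) (Y.residue (genericPoint ↥Y)).hom,
        Y.residue_surjective _⟩
  haveI := Groth.Agent.H56.SpecStalk.flat_fromSpecStalk (genericPoint ↥Y)
  haveI : Flat (Y.fromSpecResidueField (genericPoint ↥Y)) := by
    unfold Scheme.fromSpecResidueField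
    infer_instance
  exact MorphismProperty.of_isPullback (P := @Flat) (IsPullback.of_hasPullback φ (Y.fromSpecResidueField (genericPoint ↥Y))).flip inferInstance

/-- The semilinear stalk map of the unit of the pullback. -/
def u' {W Z : Scheme.{u}} (j : W ⟶ Z) (L : Z.Modules) (d : W) (a : L.presheaf.stalk (j d)) :
    ((Scheme.Modules.pullback j).obj L).presheaf.stalk d :=
  unitStalk j d L a

theorem u'_smul {W Z : Scheme.{u}} (j : W ⟶ Z) (L : Z.Modules) (d : W) (c : Z.presheaf.stalk (j d))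
    (a : L.presheaf.stalk (j d)) : u' j L d (c • a) = (j.stalkMap d).hom c • u' j L d a :=
  map_smul (unitStalk j d L).hom c a

theorem u'_germ {W Z : Scheme.{u}} (j : W ⟶ Z) (L : Z.Modules) {U : Z.Opens} (d : W) (hd : j d ∈ U)
    (m : Γ(L, U)) :
    u' j L d (L.presheaf.germ U (j d) hd m) =
      ((Scheme.Modules.pullback j).obj L).presheaf.germ (j ⁻¹ᵁ U) d hd
        (((Scheme.Modules.pullbackPushforwardAdjunction j).unit.app L).app U m) := by
  show pushStalkMap j d _ (Modules.StalkModule.stalkMapₗ _ _ _) = _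
  refine (congrArg (pushStalkMap j d _) (Modules.StalkModule.stalkMapₗ_germ _ hd m)).trans ?_
  exact pushStalkMap_germ j d _ hd _

theorem u'_bijective {W Z : Scheme.{u}} (j : W ⟶ Z) [Flat j] [IsPreimmersion j] (L : Z.Modules)
    (d : W) : Function.Bijective (u' j L d) := by
  letI : Algebra (Z.presheaf.stalk (j d)) (W.presheaf.stalk d) := (j.stalkMap d).hom.toAlgebra
  have hσ := Groth.Agent.H56.SpecStalk.stalkMap_bijective j d
  let e := LinearEquiv.ofBijective (Algebra.linearMap (Z.presheaf.stalk (j d)) (W.presheaf.stalk d)) hσ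
  let E := (TensorProduct.lid (Z.presheaf.stalk (j d)) (L.presheaf.stalk (j d))).symm ≪≫ₗ
    TensorProduct.congr e (LinearEquiv.refl _ _)
  have hc := (ConcreteCategory.isIso_iff_bijective ((comparison j d).app L)).mp inferInstance
  have : u' j L d = (fun t => (comparison j d).app L t) ∘ E := by
    funext a
    have h1 : E a = (1 : W.presheaf.stalk d) ⊗ₜ[Z.presheaf.stalk (j d)] a := by
      show TensorProduct.congr e (LinearEquiv.refl _ _) ((1 : Z.presheaf.stalk (j d)) ⊗ₜ a) = _
      rw [TensorProduct.congr_tmul]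
      exact congrArg (· ⊗ₜ a) (map_one (j.stalkMap d).hom)
    show u' j L d a = (comparison j d).app L (E a)
    rw [h1]
    exact (comparison_one_tmul j d L a).symm
  rw [this]
  exact hc.comp E.bijective

theorem exists_generic_section [IsIntegral X] [Flat φ] (hφ : ∃ x, φ x = genericPoint ↥Y)
    (L : X.Modules)
    (hgen : Nonempty ((Scheme.Modules.pullback (φ.fiberι (genericPoint ↥Y))).obj L ≅
      Coh.structureModule (φ.fiber (genericPoint ↥Y)))) :
    ∃ s : L.presheaf.stalk (genericPoint ↥X), ∀ x : X, φ x = genericPoint ↥Y →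
      ∃ e : L.presheaf.stalk x, Submodule.span (X.presheaf.stalk x) {e} = ⊤ ∧ toGen L x e = s := by
  haveI := flat_fiberι φ
  obtain ⟨i⟩ := hgen
  set j := φ.fiberι (genericPoint ↥Y) with hj
  let P := (Scheme.Modules.pullback j).obj L
  let t : Γ(P, ⊤) := i.inv.app ⊤ (1 : Γ(φ.fiber (genericPoint ↥Y), ⊤))
  have ht : ∀ d, Submodule.span ((φ.fiber (genericPoint ↥Y)).presheaf.stalk d)
      {P.presheaf.germ (⊤ : (φ.fiber (genericPoint ↥Y)).Opens) d trivial t} = ⊤ := fun d => by
    refine eq_top_iff.mpr fun v _ => Submodule.mem_span_singleton.mpr ?_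
    have hb := (Modules.StalkModule.isIso_iff_stalkMapₗ_bijective i.inv).mp inferInstance d
    obtain ⟨w, rfl⟩ := hb.2 v
    refine ⟨(AssPt.Basic.unitStalkEquiv d).symm w, ?_⟩
    refine (congrArg (_ • ·) (Modules.StalkModule.stalkMapₗ_germ i.inv
      (show d ∈ (⊤ : (φ.fiber (genericPoint ↥Y)).Opens) from trivial) (1 : Γ(φ.fiber (genericPoint ↥Y), ⊤))).symm).trans ?_
    refine (map_smul (Modules.StalkModule.stalkMapₗ i.inv d) _ _).symm.trans ?_
    exact congrArg _ ((AssPt.Basic.unitStalkEquiv d).apply_symm_apply w)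
  choose e he using fun d => (u'_bijective j L d).2 (P.presheaf.germ (⊤ : (φ.fiber (genericPoint ↥Y)).Opens) d trivial t)
  have hspan : ∀ d, Submodule.span (X.presheaf.stalk (j d)) {e d} = ⊤ := fun d => by
    refine eq_top_iff.mpr fun v _ => Submodule.mem_span_singleton.mpr ?_
    obtain ⟨c, hc⟩ := Submodule.mem_span_singleton.mp
      (show u' j L d v ∈ _ from (ht d).ge Submodule.mem_top)
    obtain ⟨c', rfl⟩ := (Groth.Agent.H56.SpecStalk.stalkMap_bijective j d).2 c
    refine ⟨c', (u'_bijective j L d).1 ?_⟩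
    rw [u'_smul, he]
    exact hc
  obtain ⟨x₀, hx₀⟩ := hφ
  obtain ⟨x₁, hx₁, hφ₁⟩ : ∃ x, x = genericPoint ↥X ∧ φ x = genericPoint ↥Y := by
    refine ⟨_, rfl, ?_⟩
    have h1 : φ (genericPoint ↥X) ⤳ genericPoint ↥Y := hx₀ ▸ (spec x₀).map φ.continuous
    exact (h1.antisymm (spec (φ (genericPoint ↥X)))).eq
  obtain ⟨d₀, hd₀⟩ : genericPoint ↥X ∈ Set.range j := by
    rw [hj, φ.range_fiberι]; exact hx₁ ▸ hφ₁
  refine ⟨toGen L (j d₀) (e d₀), fun x hx => ?_⟩
  obtain ⟨d, rfl⟩ : x ∈ Set.range j := by rw [hj, φ.range_fiberι]; exact hx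
  refine ⟨e d, hspan d, ?_⟩
  have hdd : d₀ ⤳ d := (j.isEmbedding.specializes_iff).mp (hd₀ ▸ spec (j d))
  obtain ⟨U, hU, m, hm⟩ := TopCat.Presheaf.exists_germ_eq L.presheaf (e d)
  have hU₀ : j d₀ ∈ U := (hdd.map j.continuous).mem_open U.isOpen hU
  have key : e d₀ = L.presheaf.germ U (j d₀) hU₀ m := by
    refine (u'_bijective j L d₀).1 ?_
    have h1 := he d
    rw [← hm, u'_germ] at h1
    obtain ⟨W, hW, i₁, i₂, hw⟩ := P.presheaf.germ_eq (U := j ⁻¹ᵁ U) (V := (⊤ : (φ.fiber (genericPoint ↥Y)).Opens)) d hU trivial _ _ h1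
    rw [he, u'_germ]
    have hW₀ := hdd.mem_open W.isOpen hW
    exact ((TopCat.Presheaf.germ_res_apply P.presheaf i₂ d₀ hW₀ t).symm.trans
      (congrArg _ hw.symm)).trans (TopCat.Presheaf.germ_res_apply P.presheaf i₁ d₀ hW₀ _)
  rw [key, ← hm, toGen_germ, toGen_germ]

end Groth.Agent.Lib.PicGen.GenericSec
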