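import Groth.Agent.Lib.PicGen.FlatUnit
import Groth.Agent.Lib.PicGen.Integral
import Groth.Agent.Lib.PicGen.GenericSec
import Groth.Agent.Lib.RefHull.DivRef
import Groth.Agent.Lib.RefHull.Tensor
import Groth.Agent.Lib.RefHull.DivTwist
import Groth.Agent.Lib.TensorMod.LocFree
import Groth.Agent.Lib.CurveBundle.Coherent
import Mathlib.AlgebraicGeometry.Morphisms.UniversallyOpen
import Mathlib.AlgebraicGeometry.Noetherian
import Mathlib.RingTheory.Flat.FaithfullyFlat.Algebra

/-!
# Invertible modules trivial on the generic fibre come from the base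
-/

universe u

noncomputable section

open CategoryTheory AlgebraicGeometry TopologicalSpace Opposite

namespace Groth.Agent.Lib.PicGen.Descend

open Groth.Agent.Lib Groth.Agent.Lib.RefHull Generic Ord DivSheaf

variable {X Y : Scheme.{u}} (φ : X ⟶ Y) [IsIntegral Y] [IsIntegral X]

/-- The image of the generic point is the generic point. -/
theorem map_genericPoint (hsurj : Function.Surjective φ) : φ (genericPoint ↥X) = genericPoint ↥Y := by
  obtain ⟨x, hx⟩ := hsurj (genericPoint ↥Y)
  have h1 : φ (genericPoint ↥X) ⤳ genericPoint ↥Y := hx ▸ (spec x).map φ.continuous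
  exact (h1.antisymm (spec (φ (genericPoint ↥X)))).eq

variable (hη : φ (genericPoint ↥X) = genericPoint ↥Y)

/-- The map of function fields. -/
def j : Y.functionField →+* X.functionField :=
  (φ.stalkMap (genericPoint ↥X)).hom.comp
    (Y.presheaf.stalkSpecializes (specializes_of_eq hη)).hom

theorem j_germ {V : Y.Opens} (hV : genericPoint ↥Y ∈ V) (hX : genericPoint ↥X ∈ φ ⁻¹ᵁ V) (r : Γ(Y, V)) :
    j φ hη (Y.presheaf.germ V _ hV r) = X.presheaf.germ (φ ⁻¹ᵁ V) _ hX (φ.app V r) := by
  show (φ.stalkMap (genericPoint ↥X)).hom ((Y.presheaf.stalkSpecializes (specializes_of_eq hη)).hom _) = _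
  rw [show (Y.presheaf.stalkSpecializes (specializes_of_eq hη)).hom (Y.presheaf.germ V _ hV r) =
    Y.presheaf.germ V (φ (genericPoint ↥X)) hX r from
      TopCat.Presheaf.germ_stalkSpecializes_apply Y.presheaf hV (specializes_of_eq hη) r]
  exact Scheme.Hom.germ_stalkMap_apply φ V (genericPoint ↥X) hX r

theorem j_algebraMap (x : X) (r : Y.presheaf.stalk (φ x)) :
    j φ hη (algebraMap (Y.presheaf.stalk (φ x)) Y.functionField r) =
      algebraMap (X.presheaf.stalk x) X.functionField ((φ.stalkMap x).hom r) := by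
  obtain ⟨V, hV, r', rfl⟩ := TopCat.Presheaf.exists_germ_eq Y.presheaf r
  rw [algebraMap_germ, j_germ φ hη ((spec (φ x)).mem_open V.isOpen hV)
    ((spec x).mem_open (φ ⁻¹ᵁ V).isOpen hV)]
  erw [Scheme.Hom.germ_stalkMap_apply φ V x hV r', algebraMap_germ]

variable {L : X.Modules} (s : L.presheaf.stalk (genericPoint ↥X))

/-- `k` times a generator at `x` gives the section. -/
def Works (k : Y.functionField) (x : X) : Prop :=
  ∃ e : L.presheaf.stalk x, Submodule.span (X.presheaf.stalk x) {e} = ⊤ ∧ j φ hη k • toGen L x e = s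

omit [IsIntegral Y] [IsIntegral X] in
theorem span_specializes {x x' : X} (h : x' ⤳ x) (hL : PicF.IsInvertible L) {e : L.presheaf.stalk x}
    (he : Submodule.span (X.presheaf.stalk x) {e} = ⊤) :
    Submodule.span (X.presheaf.stalk x') {L.presheaf.stalkSpecializes h e} = ⊤ := by
  obtain ⟨U, hx, ⟨i⟩⟩ := TensorMod.LocFree.of_isInvertible hL x
  obtain ⟨t, ht⟩ := CurveBundle.Coherent.exists_basis_sections i
  have hx' := h.mem_open U.isOpen hx
  have h1 := (ht x hx).2
  have h2 := (ht x' hx').2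
  rw [Set.range_unique] at h1 h2
  obtain ⟨c, hc⟩ := Submodule.mem_span_singleton.mp (show L.presheaf.germ U x hx (t default) ∈ _ from
    he.ge Submodule.mem_top)
  refine eq_top_iff.mpr (h2.ge.trans (Submodule.span_le.mpr (Set.singleton_subset_iff.mpr ?_)))
  refine Submodule.mem_span_singleton.mpr ⟨(X.presheaf.stalkSpecializes h).hom c, ?_⟩
  rw [← Cyc.C1.stalkSpecializes_smul L h c e, hc]
  exact TopCat.Presheaf.germ_stalkSpecializes_apply L.presheaf hx h (t default)

omit [IsIntegral Y] in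
theorem toGen_specializes {x x' : X} (h : x' ⤳ x) (e : L.presheaf.stalk x) :
    toGen L x' (L.presheaf.stalkSpecializes h e) = toGen L x e := by
  obtain ⟨U, hx, m, rfl⟩ := TopCat.Presheaf.exists_germ_eq L.presheaf e
  rw [TopCat.Presheaf.germ_stalkSpecializes_apply, toGen_germ, toGen_germ]

theorem works_specializes (hL : PicF.IsInvertible L) {k : Y.functionField} {x x' : X} (h : x' ⤳ x)
    (hk : Works φ hη s k x) : Works φ hη s k x' := by
  obtain ⟨e, he, hs⟩ := hk
  exact ⟨_, span_specializes h hL he, by rw [toGen_specializes h, hs]⟩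

theorem works_unique [Flat φ] (hs : s ≠ 0) {k k' : Y.functionField} (hk' : k' ≠ 0) {x : X}
    (hk : Works φ hη s k x) (hkk : Works φ hη s k' x) :
    ∃ w : Y.presheaf.stalk (φ x), IsUnit w ∧
      algebraMap (Y.presheaf.stalk (φ x)) Y.functionField w = k / k' := by
  obtain ⟨e, he, h1⟩ := hk
  obtain ⟨e', he', h2⟩ := hkk
  obtain ⟨c, hc⟩ := Submodule.mem_span_singleton.mp (show e' ∈ _ from he.ge Submodule.mem_top)
  obtain ⟨d, hd⟩ := Submodule.mem_span_singleton.mp (show e ∈ _ from he'.ge Submodule.mem_top)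
  have hne : toGen L x e ≠ 0 := fun h => hs (by rw [← h1, h, smul_zero])
  have hcancel : ∀ {p q : X.functionField}, p • toGen L x e = q • toGen L x e → p = q := fun {p q} h => by
    by_contra hne'
    have : (p - q) • toGen L x e = 0 := by rw [sub_smul, h, sub_self]
    exact hne ((isUnit_iff_ne_zero.mpr (sub_ne_zero.mpr hne')).smul_eq_zero.mp this)
  set A := algebraMap (X.presheaf.stalk x) X.functionField
  have e1 : j φ hη k = j φ hη k' * A c := hcancel (by
    rw [mul_smul, ← toGen_smul, hc, h1, h2])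
  have hdc : d * c = 1 := IsFractionRing.injective (X.presheaf.stalk x) X.functionField (hcancel (by
    rw [map_mul, map_one, one_smul, mul_smul, ← toGen_smul, hc, ← toGen_smul, hd]))
  obtain ⟨p, q, hq, hpq⟩ := IsFractionRing.div_surjective (A := Y.presheaf.stalk (φ x)) (k / k')
  have hq0 := nonZeroDivisors.ne_zero hq
  have hmap : (φ.stalkMap x).hom p = c * (φ.stalkMap x).hom q := by
    refine IsFractionRing.injective (X.presheaf.stalk x) X.functionField ?_
    rw [map_mul, ← j_algebraMap φ hη, ← j_algebraMap φ hη]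
    have h3 : algebraMap (Y.presheaf.stalk (φ x)) Y.functionField p * k' =
        k * algebraMap (Y.presheaf.stalk (φ x)) Y.functionField q := by
      rwa [div_eq_div_iff (algebraMap_ne_zero hq0) hk'] at hpq
    have h4 := congrArg (j φ hη) h3
    rw [map_mul, map_mul, e1] at h4
    exact mul_right_cancel₀ ((map_ne_zero (j φ hη)).mpr hk') (by linear_combination h4)
  letI : Algebra (Y.presheaf.stalk (φ x)) (X.presheaf.stalk x) := (φ.stalkMap x).hom.toAlgebra
  haveI : Module.FaithfullyFlat (Y.presheaf.stalk (φ x)) (X.presheaf.stalk x) :=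
    @Module.FaithfullyFlat.of_flat_of_isLocalHom _ _ _ _ _ _ _ (Flat.stalkMap φ x) (φ.toLRSHom.prop x)
  have hcu : IsUnit c := IsUnit.of_mul_eq_one d (by rw [mul_comm]; exact hdc)
  have hspan : Ideal.span {p} = Ideal.span {q} := by
    rw [← Ideal.comap_map_eq_self_of_faithfullyFlat (B := X.presheaf.stalk x) (Ideal.span {p}),
      ← Ideal.comap_map_eq_self_of_faithfullyFlat (B := X.presheaf.stalk x) (Ideal.span {q}),
      Ideal.map_span, Ideal.map_span, Set.image_singleton, Set.image_singleton]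
    congr 1
    show Ideal.span {(φ.stalkMap x).hom p} = Ideal.span {(φ.stalkMap x).hom q}
    rw [hmap]
    exact Ideal.span_singleton_mul_left_unit hcu _
  obtain ⟨w, hw⟩ := Ideal.span_singleton_eq_span_singleton.mp hspan
  refine ⟨(w⁻¹ : (Y.presheaf.stalk (φ x))ˣ), Units.isUnit _, ?_⟩
  rw [← hpq, eq_div_iff (algebraMap_ne_zero hq0), ← map_mul, ← hw, mul_comm p, ← mul_assoc,
    Units.inv_mul, one_mul]

variable [IsLocallyNoetherian Y] [Flat φ]

theorem exists_works (hY : Pi1.IsNormalScheme Y) (hfib : ∀ y : ↥Y, IsIntegral (φ.fiber y))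
    (hL : PicF.IsInvertible L) (hs : s ≠ 0)
    (hgs : ∀ x : X, φ x = genericPoint ↥Y → Works φ hη s 1 x) (x : X) :
    ∃ k : Y.functionField, k ≠ 0 ∧ Works φ hη s k x := by
  obtain ⟨V, hV, hxV, -⟩ := exists_isAffineOpen_mem_and_subset (X := Y) (x := φ x) (U := ⊤) trivial
  obtain ⟨U₀, hx₀, ⟨i⟩⟩ := TensorMod.LocFree.of_isInvertible hL x
  obtain ⟨t, ht⟩ := CurveBundle.Coherent.exists_basis_sections i
  obtain ⟨U, hU, hxU, hUle⟩ := exists_isAffineOpen_mem_and_subset (X := X) (x := x)
    (U := (φ ⁻¹ᵁ V) ⊓ U₀) (Opens.mem_inf.mpr ⟨hxV, hx₀⟩)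
  have hUV : U ≤ φ ⁻¹ᵁ V := fun p hp => (Opens.mem_inf.mp (hUle hp)).1
  have hU0 : U ≤ U₀ := fun p hp => (Opens.mem_inf.mp (hUle hp)).2
  set m := L.presheaf.map (homOfLE hU0).op (t default)
  have hgen : ∀ (p : X) (hp : p ∈ U), Submodule.span (X.presheaf.stalk p) {L.presheaf.germ U p hp m} = ⊤ :=
    fun p hp => by
      have := (ht p (hU0 hp)).2
      rw [Set.range_unique] at this
      rwa [show L.presheaf.germ U p hp m = L.presheaf.germ U₀ p (hU0 hp) (t default) from
        TopCat.Presheaf.germ_res_apply L.presheaf (homOfLE hU0) p hp (t default)]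
  have hξU := (spec x).mem_open U.isOpen hxU
  have hηV := (spec (φ x)).mem_open V.isOpen hxV
  set g₀ := L.presheaf.germ U (genericPoint ↥X) hξU m
  obtain ⟨f, hf⟩ := Submodule.mem_span_singleton.mp
    (show s ∈ Submodule.span X.functionField {g₀} from (hgen _ hξU).ge Submodule.mem_top)
  have hf0 : f ≠ 0 := fun h => hs (by rw [← hf, h, zero_smul])
  letI := (φ.appLE V U hUV).hom.toAlgebra
  haveI : Nonempty (V : Scheme.{u}) := ⟨⟨φ x, hxV⟩⟩
  haveI : Nonempty (U : Scheme.{u}) := ⟨⟨x, hxU⟩⟩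
  haveI : IsNoetherianRing Γ(Y, V) := IsLocallyNoetherian.component_noetherian ⟨V, hV⟩
  haveI : Module.Flat Γ(Y, V) Γ(X, U) := Flat.flat_appLE φ hV hU hUV
  haveI : IsIntegrallyClosed Γ(Y, V) := by
    refine IsIntegrallyClosed.of_localization_maximal fun p hp0 hp => ?_
    obtain ⟨y, hy, hyp⟩ := AssPt.Basic.exists_point_of_prime hV p
    letI := TopCat.Presheaf.algebra_section_stalk Y.presheaf (⟨y, hy⟩ : V)
    haveI := hV.isLocalization_stalk ⟨y, hy⟩
    haveI : IsLocalization.AtPrime (Y.presheaf.stalk y) p := hyp ▸ hV.isLocalization_stalk ⟨y, hy⟩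
    haveI := (hY y).2
    exact IsIntegrallyClosed.of_equiv
      (IsLocalization.algEquiv p.primeCompl (Y.presheaf.stalk y) (Localization.AtPrime p)).toRingEquiv
  have hjA : ∀ r : Γ(Y, V), j φ hη (Y.presheaf.germ V _ hηV r) =
      X.presheaf.germ U _ hξU (algebraMap Γ(Y, V) Γ(X, U) r) := fun r => by
    rw [j_germ φ hη hηV (hUV hξU) r]
    exact (TopCat.Presheaf.germ_res_apply X.presheaf (homOfLE hUV) _ hξU (φ.app V r)).symm
  have hinjV := germ_injective_of_isIntegral (X := Y) (genericPoint ↥Y) hηV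
  have hinjU := germ_injective_of_isIntegral (X := X) (genericPoint ↥X) hξU
  haveI : FaithfulSMul Γ(Y, V) Γ(X, U) := by
    rw [faithfulSMul_iff_algebraMap_injective]
    intro a b h
    exact hinjV ((j φ hη).injective (by rw [hjA, hjA, h]))
  -- denominators from the base
  have hden : ∀ F : X.functionField,
      (∀ p : X, (hp : p ∈ U) → φ p = genericPoint ↥Y →
        ∃ r, algebraMap (X.presheaf.stalk p) X.functionField r = F) →
      ∃ (a : Γ(Y, V)) (g : Γ(X, U)), a ≠ 0 ∧
        j φ hη (Y.presheaf.germ V _ hηV a) * F = X.presheaf.germ U _ hξU g := by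
    intro F hF
    let J : Ideal Γ(X, U) :=
      { carrier := {r | ∃ g, X.presheaf.germ U _ hξU r * F = X.presheaf.germ U _ hξU g}
        add_mem' := fun ⟨g, hg⟩ ⟨g', hg'⟩ => ⟨g + g', by rw [map_add, map_add, add_mul, hg, hg']⟩
        zero_mem' := ⟨0, by rw [map_zero, zero_mul]⟩
        smul_mem' := fun r _ ⟨g, hg⟩ => ⟨r * g, by rw [smul_eq_mul, map_mul, map_mul, mul_assoc, hg]⟩ }
    by_contra hno
    push Not at hno
    have hdisj : Disjoint (J : Set Γ(X, U))
        (Algebra.algebraMapSubmonoid Γ(X, U) (nonZeroDivisors Γ(Y, V)) : Set Γ(X, U)) := by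
      rw [Set.disjoint_left]
      rintro _ ⟨g, hg⟩ ⟨a, ha, rfl⟩
      exact hno a g (nonZeroDivisors.ne_zero ha) (by rw [hjA]; exact hg)
    obtain ⟨P, hP, hJP, hPd⟩ := Ideal.exists_le_prime_disjoint J _ hdisj
    haveI := hP
    obtain ⟨p, hp, hpP⟩ := AssPt.Basic.exists_point_of_prime hU P
    have hPc : P.comap (φ.appLE V U hUV).hom = ⊥ := by
      refine eq_bot_iff.mpr fun a ha => ?_
      by_contra ha0
      exact Set.disjoint_left.mp hPd ha ⟨a, mem_nonZeroDivisors_of_ne_zero ha0, rfl⟩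
    have hφp : φ p = genericPoint ↥Y := by
      have h := IsAffineOpen.comap_primeIdealOf_appLE (f := φ) (x := p) V hV U hU hUV hp
      have hηp := (spec (φ p)).mem_open V.isOpen (hUV hp)
      refine (((AssPt.Basic.specializes_iff_primeIdealOf hV hηp (hUV hp)).mpr ?_).antisymm
        (spec (φ p))).eq
      have h' := congrArg PrimeSpectrum.asIdeal h
      change (hU.primeIdealOf ⟨p, hp⟩).asIdeal.comap (φ.appLE V U hUV).hom = _ at h'
      rw [hpP, hPc] at h'
      rw [← h']
      exact bot_le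
    obtain ⟨r, hr⟩ := hF p hp hφp
    letI := TopCat.Presheaf.algebra_section_stalk X.presheaf (⟨p, hp⟩ : U)
    haveI := hU.isLocalization_stalk ⟨p, hp⟩
    obtain ⟨⟨num, den⟩, hnd⟩ := IsLocalization.surj (hU.primeIdealOf ⟨p, hp⟩).asIdeal.primeCompl r
    refine den.2 ?_
    suffices hmem : (den.1 : Γ(X, U)) ∈ P from hpP.ge hmem
    refine hJP ⟨num, ?_⟩
    have h2 := congrArg (algebraMap (X.presheaf.stalk p) X.functionField) hnd
    rw [map_mul, hr, show algebraMap Γ(X, U) (X.presheaf.stalk p) den.1 = X.presheaf.germ U p hp den.1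
      from rfl, show algebraMap Γ(X, U) (X.presheaf.stalk p) num = X.presheaf.germ U p hp num from rfl,
      algebraMap_germ, algebraMap_germ] at h2
    rw [mul_comm]
    exact h2
  have hgen' : ∀ p : X, (hp : p ∈ U) → φ p = genericPoint ↥Y →
      ∃ r, IsUnit r ∧ algebraMap (X.presheaf.stalk p) X.functionField r = f := by
    intro p hp hφp
    obtain ⟨e, he, hes⟩ := hgs p hφp
    rw [map_one, one_smul] at hes
    obtain ⟨c, hc⟩ := Submodule.mem_span_singleton.mp (show e ∈ _ from (hgen p hp).ge Submodule.mem_top)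
    obtain ⟨d, hd⟩ := Submodule.mem_span_singleton.mp
      (show L.presheaf.germ U p hp m ∈ _ from he.ge Submodule.mem_top)
    have hg0 : g₀ ≠ 0 := fun h => hs (by rw [← hf, h, smul_zero])
    have hcancel : ∀ {a b : X.functionField}, a • g₀ = b • g₀ → a = b := fun {a b} h => by
      by_contra hne'
      have : (a - b) • g₀ = 0 := by rw [sub_smul, h, sub_self]
      exact hg0 ((isUnit_iff_ne_zero.mpr (sub_ne_zero.mpr hne')).smul_eq_zero.mp this)
    have hcf : algebraMap (X.presheaf.stalk p) X.functionField c = f := hcancel (by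
      rw [hf, ← hes, ← hc, toGen_smul, toGen_germ])
    refine ⟨c, IsUnit.of_mul_eq_one d ?_, hcf⟩
    refine IsFractionRing.injective (X.presheaf.stalk p) X.functionField (hcancel ?_)
    rw [map_mul, map_one, one_smul, mul_comm, mul_smul, hcf, hf, ← hes, ← toGen_smul, hd, toGen_germ]
  obtain ⟨a, g, ha, hg⟩ := hden f fun p hp h => let ⟨r, _, hr⟩ := hgen' p hp h; ⟨r, hr⟩
  obtain ⟨a', h, ha', hh⟩ := hden f⁻¹ fun p hp hφp => by
    obtain ⟨r, hr, hrf⟩ := hgen' p hp hφp
    obtain ⟨r', hr'⟩ := hr.exists_right_inv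
    refine ⟨r', ?_⟩
    rw [← hrf]
    refine eq_inv_of_mul_eq_one_left ?_
    rw [mul_comm, ← map_mul, hr', map_one]
  have hgh : g * h = algebraMap Γ(Y, V) Γ(X, U) (a * a') := by
    refine hinjU ?_
    rw [map_mul, ← hg, ← hh, ← hjA, map_mul, map_mul]
    field_simp
  obtain ⟨b, u, hu, hb⟩ := FlatUnit.exists_eq_mul (mul_ne_zero ha ha') hgh
    (fun q _ _ => Integral.isDomain_fiber φ hfib hU hV hUV q) (hU.primeIdealOf ⟨x, hxU⟩).asIdeal
  letI := TopCat.Presheaf.algebra_section_stalk X.presheaf (⟨x, hxU⟩ : U)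
  haveI := hU.isLocalization_stalk ⟨x, hxU⟩
  have hux : IsUnit (X.presheaf.germ U x hxU u) :=
    IsLocalization.map_units (X.presheaf.stalk x) (⟨u, hu⟩ : (hU.primeIdealOf ⟨x, hxU⟩).asIdeal.primeCompl)
  set ja := j φ hη (Y.presheaf.germ V _ hηV a)
  set jb := j φ hη (Y.presheaf.germ V _ hηV b)
  have hbe : jb = ja * f * X.presheaf.germ U _ hξU u := by
    show j φ hη _ = _
    rw [hjA, hb, map_mul, ← hg]
  have hja : ja ≠ 0 := (map_ne_zero (j φ hη)).mpr fun h0 => ha (hinjV (h0.trans (map_zero _).symm))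
  have hju : X.presheaf.germ U (genericPoint ↥X) hξU u ≠ 0 := fun h0 => by
    have := algebraMap_ne_zero (X := X) hux.ne_zero
    rw [algebraMap_germ] at this
    exact this h0
  refine ⟨Y.presheaf.germ V _ hηV b / Y.presheaf.germ V _ hηV a, ?_,
    (hux.unit⁻¹ : (X.presheaf.stalk x)ˣ).1 • L.presheaf.germ U x hxU m, ?_, ?_⟩
  · intro h0
    have h1 : jb / ja = 0 := by
      show j φ hη _ / j φ hη _ = 0
      rw [← map_div₀, h0, map_zero]
    rw [hbe] at h1
    simp [hja, hf0, hju] at h1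
  · rw [Submodule.span_singleton_smul_eq (Units.isUnit _), hgen x hxU]
  · rw [toGen_smul, toGen_germ, smul_smul, map_div₀, ← hf]
    congr 1
    show jb / ja * _ = f
    have hinv : algebraMap (X.presheaf.stalk x) X.functionField
        (hux.unit⁻¹ : (X.presheaf.stalk x)ˣ).1 * X.presheaf.germ U _ hξU u = 1 := by
      rw [← algebraMap_germ hxU, ← map_mul, IsUnit.val_inv_mul, map_one]
    rw [hbe]
    field_simp
    linear_combination hinv

omit [IsLocallyNoetherian Y] [Flat φ] in
theorem works_of_unit {k k' : Y.functionField} {x : X} (w : Y.presheaf.stalk (φ x)) (hw : IsUnit w)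
    (h : algebraMap (Y.presheaf.stalk (φ x)) Y.functionField w * k' = k) (hk : Works φ hη s k x) :
    Works φ hη s k' x := by
  obtain ⟨e, he, hs⟩ := hk
  refine ⟨(φ.stalkMap x).hom w • e, ?_, ?_⟩
  · rw [Submodule.span_singleton_smul_eq (hw.map (φ.stalkMap x).hom), he]
  · rw [toGen_smul, ← j_algebraMap φ hη, smul_smul, ← map_mul, mul_comm, h, hs]

omit [IsLocallyNoetherian Y] [Flat φ] in
theorem isOpen_works (hL : PicF.IsInvertible L) : IsOpen {x : X | Works φ hη s 1 x} := by
  refine isOpen_iff_forall_mem_open.mpr fun x ⟨e, he, hs⟩ => ?_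
  obtain ⟨U, hx, m, rfl⟩ := TopCat.Presheaf.exists_germ_eq L.presheaf e
  obtain ⟨U₀, hx₀, ⟨i⟩⟩ := TensorMod.LocFree.of_isInvertible hL x
  obtain ⟨t, ht⟩ := CurveBundle.Coherent.exists_basis_sections i
  have hgen : ∀ z (hz : z ∈ U₀), Submodule.span (X.presheaf.stalk z) {L.presheaf.germ U₀ z hz (t default)} = ⊤ :=
    fun z hz => by
      have h := (ht z hz).2
      rwa [Set.range_unique] at h
  obtain ⟨c, hc⟩ := Submodule.mem_span_singleton.mp
    (show L.presheaf.germ U₀ x hx₀ (t default) ∈ _ from he.ge Submodule.mem_top)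
  obtain ⟨W, hW, c', rfl⟩ := TopCat.Presheaf.exists_germ_eq X.presheaf c
  let O : X.Opens := U ⊓ U₀ ⊓ W
  have hxO : x ∈ O := Opens.mem_inf.mpr ⟨Opens.mem_inf.mpr ⟨hx, hx₀⟩, hW⟩
  have hOU : O ≤ U := inf_le_left.trans inf_le_left
  have hOU₀ : O ≤ U₀ := inf_le_left.trans inf_le_right
  have hOW : O ≤ W := inf_le_right
  have heq : L.presheaf.germ O x hxO (X.presheaf.map (homOfLE hOW).op c' • L.presheaf.map (homOfLE hOU).op m) =
      L.presheaf.germ O x hxO (L.presheaf.map (homOfLE hOU₀).op (t default)) := by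
    rw [Mero.germ_smul L O x hxO, TopCat.Presheaf.germ_res_apply, TopCat.Presheaf.germ_res_apply,
      TopCat.Presheaf.germ_res_apply]
    exact hc
  obtain ⟨T, hT, i₁, i₂, hTe⟩ := L.presheaf.germ_eq x hxO hxO _ _ heq
  refine ⟨T, fun z hz => ?_, T.isOpen, hT⟩
  have hzO : z ∈ O := i₁.le hz
  refine ⟨L.presheaf.germ U z (hOU hzO) m, ?_, ?_⟩
  · refine eq_top_iff.mpr ((hgen z (hOU₀ hzO)).ge.trans (Submodule.span_le.mpr (Set.singleton_subset_iff.mpr ?_)))
    refine Submodule.mem_span_singleton.mpr ⟨X.presheaf.germ W z (hOW hzO) c', ?_⟩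
    have h := congrArg (L.presheaf.germ T z hz) hTe
    rw [TopCat.Presheaf.germ_res_apply, TopCat.Presheaf.germ_res_apply, Mero.germ_smul L O z hzO,
      TopCat.Presheaf.germ_res_apply, TopCat.Presheaf.germ_res_apply, TopCat.Presheaf.germ_res_apply] at h
    exact h
  · rw [toGen_germ] at hs ⊢
    exact hs

omit [IsIntegral X] [Flat φ] in
theorem eq_or_eq_genericPoint {q y : Y} (hq : Order.coheight q = 1) (h : y ⤳ q) :
    y = q ∨ y = genericPoint ↥Y := by
  obtain ⟨U, hU, hqU, -⟩ := exists_isAffineOpen_mem_and_subset (X := Y) (Opens.mem_top q)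
  haveI : IsNoetherianRing Γ(Y, U) := IsLocallyNoetherian.component_noetherian ⟨U, hU⟩
  haveI : Nonempty (U : Scheme.{u}) := ⟨⟨q, hqU⟩⟩
  haveI : IsDomain Γ(Y, U) := inferInstance
  have hyU := h.mem_open U.isOpen hqU
  have hle := (AssPt.Basic.specializes_iff_primeIdealOf hU hqU hyU).mp h
  have hηU := (spec q).mem_open U.isOpen hqU
  rcases hle.eq_or_lt with e | hlt
  · left
    have := congrArg hU.fromSpec (PrimeSpectrum.ext e)
    rwa [hU.fromSpec_primeIdealOf, hU.fromSpec_primeIdealOf] at this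
  · right
    have h1 := Ideal.height_add_one_le_of_lt_of_isPrime hlt
    have e1 := Ideal.Prime.ringKrullDim_stalk_eq_height hU hqU
    rw [dim_eq_one_iff.mpr hq] at e1
    rw [show (hU.primeIdealOf ⟨q, hqU⟩).asIdeal.height = 1 by exact_mod_cast e1.symm] at h1
    have h0 : (hU.primeIdealOf ⟨y, hyU⟩).asIdeal.height = 0 := by
      rcases eq_or_ne (hU.primeIdealOf ⟨y, hyU⟩).asIdeal.height 0 with h' | h'
      · exact h'
      · exact absurd ((add_le_add (Order.one_le_iff_pos.mpr (pos_iff_ne_zero.mpr h')) le_rfl).trans h1)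
          (by decide)
    have hb := Ideal.height_eq_zero_iff_eq_bot.mp h0
    refine (((AssPt.Basic.specializes_iff_primeIdealOf hU hηU hyU).mpr ?_).antisymm (spec y)).eq
    rw [hb]
    exact bot_le

omit [IsIntegral Y] [IsIntegral X] [IsLocallyNoetherian Y] [Flat φ] in
/-- In a noetherian space only finitely many points have no proper generization. -/
theorem finite_maximal {α : Type*} [TopologicalSpace α] [T0Space α] [QuasiSober α] [NoetherianSpace α] :
    {z : α | ∀ w, w ⤳ z → w = z}.Finite := by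
  have hmem : ∀ z ∈ {z : α | ∀ w, w ⤳ z → w = z}, closure {z} ∈ irreducibleComponents α := by
    intro z hz
    obtain ⟨C, hC, hzC, hmax⟩ := exists_preirreducible ({z} : Set α) isPreirreducible_singleton
    have hirr : IsIrreducible C := ⟨⟨z, hzC rfl⟩, hC⟩
    have hcomp : C ∈ irreducibleComponents α := by
      refine ⟨hirr, fun D hD hCD => ?_⟩
      rw [hmax D hD.2 hCD]
    have hCc : IsClosed C := isClosed_of_mem_irreducibleComponents C hcomp
    obtain ⟨w, hw⟩ := QuasiSober.sober hirr hCc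
    have hwz : w ⤳ z := hw.specializes (hzC rfl)
    rw [← hz w hwz, hw.def]
    exact hcomp
  refine Set.Finite.of_finite_image (f := fun z : α => closure ({z} : Set α))
    (TopologicalSpace.NoetherianSpace.finite_irreducibleComponents.subset ?_) ?_
  · rintro _ ⟨z, hz, rfl⟩
    exact hmem z hz
  · intro a _ b _ h
    exact (inseparable_iff_closure_eq.mpr h).eq

variable [IsLocallyNoetherian X]

theorem finite_bad (hL : PicF.IsInvertible L)
    (hgs : ∀ x : X, φ x = genericPoint ↥Y → Works φ hη s 1 x)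
    (g : Y → X) (hg : ∀ y, φ (g y) = y) (hgen : ∀ x, g (φ x) ⤳ x)
    (hφ : QuasiCompact φ ∨ LocallyOfFiniteType φ) (hsurj : Function.Surjective φ)
    {V : Y.Opens} (hV : IsAffineOpen V) :
    {q : Y | q ∈ V ∧ Order.coheight q = 1 ∧ ¬ Works φ hη s 1 (g q)}.Finite := by
  obtain ⟨W, hWc, hW⟩ : ∃ W : X.Opens, IsCompact (W : Set X) ∧ ∀ q ∈ V, ∃ x ∈ W, φ x = q := by
    rcases hφ with h | h
    · refine ⟨φ ⁻¹ᵁ V, φ.isCompact_preimage hV.isCompact, fun q hq => ?_⟩
      obtain ⟨x, rfl⟩ := hsurj q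
      exact ⟨x, hq, rfl⟩
    · haveI : LocallyOfFinitePresentation φ := inferInstance
      have hopen : IsOpenMap φ := φ.isOpenMap
      obtain ⟨t, ht⟩ := hV.isCompact.elim_finite_subcover (fun U : X.affineOpens => φ '' (U.1 : Set X))
        (fun U => hopen _ U.1.isOpen) fun q _ => by
          obtain ⟨x, rfl⟩ := hsurj q
          obtain ⟨U, hU, hxU, -⟩ := exists_isAffineOpen_mem_and_subset (X := X) (Opens.mem_top x)
          exact Set.mem_iUnion.mpr ⟨⟨U, hU⟩, x, hxU, rfl⟩
      refine ⟨⟨⋃ U ∈ t, (U.1 : Set X), isOpen_biUnion fun U _ => U.1.isOpen⟩,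
        t.isCompact_biUnion fun U _ => U.2.isCompact, fun q hq => ?_⟩
      obtain ⟨U, hU, x, hx, e⟩ := Set.mem_iUnion₂.mp (ht hq)
      exact ⟨x, Set.mem_biUnion hU hx, e⟩
  haveI : CompactSpace W := isCompact_iff_compactSpace.mp hWc
  haveI : CompactSpace (W : Scheme.{u}) := this
  haveI : IsNoetherian (W : Scheme.{u}) := { }
  let S : Set (W : Scheme.{u}) := {z | ¬ Works φ hη s 1 z.1}
  have hSc : IsClosed S :=
    ((isOpen_works φ hη s hL).preimage continuous_subtype_val).isClosed_compl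
  haveI : QuasiSober S := hSc.isClosedEmbedding_subtypeVal.quasiSober
  haveI : NoetherianSpace S := inferInstance
  have hfin := (finite_maximal (α := S)).image fun z => φ z.1.1
  refine hfin.subset ?_
  rintro q ⟨hqV, hq1, hq⟩
  obtain ⟨x, hxW, rfl⟩ := hW q hqV
  have hgW : g (φ x) ∈ W := (hgen x).mem_open W.isOpen hxW
  refine ⟨⟨⟨g (φ x), hgW⟩, hq⟩, fun w hw => ?_, hg (φ x)⟩
  have hw' : w.1.1 ⤳ g (φ x) := (hw.map continuous_subtype_val).map continuous_subtype_val
  have h2 : φ w.1.1 ⤳ φ x := by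
    have := hw'.map φ.continuous
    rwa [hg] at this
  rcases eq_or_eq_genericPoint hq1 h2 with e | e
  · have h3 := hgen w.1.1
    rw [e] at h3
    exact Subtype.ext (Subtype.ext (hw'.antisymm h3).eq)
  · exact absurd (hgs _ e) w.2

end Groth.Agent.Lib.PicGen.Descend
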