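import Groth.Agent.S14359
import Mathlib.RingTheory.Flat.EquationalCriterion
import Mathlib.RingTheory.LocalRing.ResidueField.Fiber
import Mathlib.RingTheory.DiscreteValuationRing.TFAE
import Mathlib.RingTheory.Ideal.AssociatedPrime.Finiteness
import Mathlib.RingTheory.Localization.Integral
import Mathlib.RingTheory.Prime
import Mathlib.RingTheory.KrullDimension.Field

/-!
# Divisors of a nonzero constant in a flat algebra with integral fibres over a normal domain
-/

universe u

namespace Groth.Agent.Lib.PicGen.FlatUnit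

variable {A B : Type u} [CommRing A] [IsDomain A] [CommRing B] [IsDomain B] [Algebra A B]

/-- `x` lies in `g B` after localizing at the prime `q` of `A`. -/
def In (g : B) (q : Ideal A) (x : B) : Prop := ∃ c ∉ q, ∃ z : B, c • x = g * z

lemma In.mul_left {g : B} {q : Ideal A} {x : B} (h : In g q x) (y : B) : In g q (y * x) := by
  obtain ⟨c, hc, z, e⟩ := h
  exact ⟨c, hc, y * z, by rw [← mul_smul_comm, e]; ring⟩

lemma In.add {g : B} {q : Ideal A} [q.IsPrime] {x y : B} (h : In g q x) (h' : In g q y) : In g q (x + y) := by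
  obtain ⟨c, hc, z, e⟩ := h
  obtain ⟨d, hd, z', e'⟩ := h'
  exact ⟨c * d, fun hcd => (Ideal.IsPrime.mem_or_mem ‹_› hcd).elim hc hd, d • z + c • z', by
    rw [smul_add, mul_comm c d, mul_smul, e, mul_comm d c, mul_smul, e', mul_add,
      ← mul_smul_comm, ← mul_smul_comm]⟩

lemma In.sum {g : B} {q : Ideal A} [q.IsPrime] {ι : Type*} (s : Finset ι) (x : ι → B)
    (h : ∀ i ∈ s, In g q (x i)) : In g q (∑ i ∈ s, x i) :=
  Finset.sum_induction _ (In g q) (fun _ _ => In.add)
    ⟨1, fun h1 => Ideal.IsPrime.ne_top ‹_› ((Ideal.eq_top_iff_one q).mpr h1), 0, by simp⟩ h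

attribute [local instance] Algebra.TensorProduct.rightAlgebra in
/-- At a height one prime, a divisor of a constant is a power of the uniformizer. -/
theorem exists_pow [IsNoetherianRing A] [IsIntegrallyClosed A] [FaithfulSMul A B]
    {g h : B} {a : A} (ha : a ≠ 0) (e : g * h = algebraMap A B a) (q : Ideal A) [q.IsPrime]
    (hq : q.height = 1) (hfib : IsDomain (q.Fiber B) ∨ Subsingleton (q.Fiber B)) :
    ∃ (m : A) (c₁ c₂ : A) (z₁ z₂ : B), c₁ ∉ q ∧ c₂ ∉ q ∧
      c₁ • g = m • z₁ ∧ c₂ • algebraMap A B m = g * z₂ := by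
  let R := Localization q.primeCompl
  let T := Localization (Algebra.algebraMapSubmonoid B q.primeCompl)
  haveI : IsLocalRing R := IsLocalization.AtPrime.isLocalRing R q
  haveI : IsIntegrallyClosed R := isIntegrallyClosed_of_isLocalization R q.primeCompl q.primeCompl_le_nonZeroDivisors
  haveI : IsDomain R := IsLocalization.isDomain_localization q.primeCompl_le_nonZeroDivisors
  haveI : IsNoetherianRing R := IsLocalization.isNoetherianRing q.primeCompl R inferInstance
  have hdim : ringKrullDim R = 1 := by
    rw [IsLocalization.AtPrime.ringKrullDim_eq_height q R, hq]; rfl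
  haveI : IsDiscreteValuationRing R := by
    have hnf : ¬ IsField R := fun hf => by
      rw [ringKrullDim_eq_zero_of_isField hf] at hdim
      exact zero_ne_one hdim
    refine ((IsDiscreteValuationRing.TFAE R hnf).out 3 0 rfl rfl).mp ⟨inferInstance, ?_⟩
    have hne : IsLocalRing.maximalIdeal R ≠ ⊥ := fun h => hnf (IsLocalRing.isField_iff_maximalIdeal_eq.mpr h)
    refine ⟨IsLocalRing.maximalIdeal R, ⟨hne, inferInstance⟩, fun P hP => ?_⟩
    haveI : Ring.KrullDimLE 1 R := Ring.krullDimLE_iff.mpr hdim.le
    haveI := hP.2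
    exact IsLocalRing.eq_maximalIdeal ((Ring.krullDimLE_one_iff_of_noZeroDivisors.mp inferInstance) P hP.1 hP.2)
  obtain ⟨ϖ, hϖ⟩ := IsDiscreteValuationRing.exists_irreducible R
  obtain ⟨⟨p, s⟩, hps⟩ := IsLocalization.surj q.primeCompl ϖ
  have hsu : IsUnit (algebraMap A R s) := IsLocalization.map_units R s
  have hp : Irreducible (algebraMap A R p) := by
    rw [← hps]; exact (irreducible_mul_isUnit hsu).mpr hϖ
  have hmax : IsLocalRing.maximalIdeal R = Ideal.span {algebraMap A R p} :=
    (IsDiscreteValuationRing.irreducible_iff_uniformizer _).mp hp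
  have haR : algebraMap A R a ≠ 0 := fun h => ha
    (IsLocalization.injective R q.primeCompl_le_nonZeroDivisors (h.trans (map_zero _).symm))
  obtain ⟨n, v, hv⟩ := IsDiscreteValuationRing.eq_unit_mul_pow_irreducible haR hp
  have hle : Algebra.algebraMapSubmonoid B q.primeCompl ≤ nonZeroDivisors B := by
    rintro _ ⟨c, hc, rfl⟩
    refine mem_nonZeroDivisors_of_ne_zero fun h => ?_
    exact nonZeroDivisors.ne_zero (q.primeCompl_le_nonZeroDivisors hc)
      (FaithfulSMul.algebraMap_injective A B (h.trans (map_zero _).symm))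
  haveI : IsDomain T := IsLocalization.isDomain_localization hle
  set P : T := algebraMap A T p
  have hPm : (IsLocalRing.maximalIdeal R).map (algebraMap R T) = Ideal.span {P} := by
    rw [hmax, Ideal.map_span, Set.image_singleton, ← IsScalarTower.algebraMap_apply A R T]
  have hP : IsUnit P ∨ Prime P := by
    by_cases hu : IsUnit P
    · exact Or.inl hu
    refine Or.inr ?_
    have hP0 : P ≠ 0 := by
      intro h0
      refine hp.ne_zero ?_
      have hp0 : p = 0 := FaithfulSMul.algebraMap_injective A B (IsLocalization.injective T hle (by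
        rw [← IsScalarTower.algebraMap_apply A B T, map_zero, map_zero]; exact h0))
      rw [hp0, map_zero]
    let eq := (Ideal.Fiber.algEquivQuotient (R := A) (S := B) q)
    rcases hfib with hd | hs
    · haveI := hd
      have : IsDomain (T ⧸ (IsLocalRing.maximalIdeal R).map (algebraMap R T)) :=
        MulEquiv.isDomain _ eq.symm.toMulEquiv
      rw [hPm] at this
      exact (Ideal.span_singleton_prime hP0).mp ((Ideal.Quotient.isDomain_iff_prime _).mp this)
    · haveI := hs
      have : Subsingleton (T ⧸ (IsLocalRing.maximalIdeal R).map (algebraMap R T)) :=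
        eq.symm.toEquiv.subsingleton
      rw [Ideal.Quotient.subsingleton_iff, hPm, Ideal.span_singleton_eq_top] at this
      exact absurd this hu
  have he : algebraMap B T g * algebraMap B T h = algebraMap R T v * P ^ n := by
    rw [← map_mul, e, ← IsScalarTower.algebraMap_apply, IsScalarTower.algebraMap_apply A R T, hv,
      map_mul, map_pow, ← IsScalarTower.algebraMap_apply A R T]
  obtain ⟨i, U, hU⟩ : ∃ (i : ℕ) (U : Tˣ), algebraMap B T g = U * P ^ i := by
    rcases hP with hu | hP
    · have : IsUnit (algebraMap B T g * algebraMap B T h) := by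
        rw [he]; exact ((v.isUnit.map _)).mul (hu.pow n)
      exact ⟨0, (isUnit_of_mul_isUnit_left this).unit, by simp⟩
    · obtain ⟨i, j, b, c, -, hbc, hx, -⟩ := mul_eq_mul_prime_pow hP he
      exact ⟨i, (isUnit_of_mul_isUnit_left (hbc ▸ (v.isUnit.map (algebraMap R T)))).unit, hx⟩
  have hmap : ∀ w : T, ∃ c ∉ q, ∃ z : B, algebraMap A T c * w = algebraMap B T z := fun w => by
    obtain ⟨⟨z, ⟨_, c, hc, rfl⟩⟩, hz⟩ := IsLocalization.surj (Algebra.algebraMapSubmonoid B q.primeCompl) w
    exact ⟨c, hc, z, by rw [mul_comm, IsScalarTower.algebraMap_apply A B T]; exact hz⟩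
  obtain ⟨c₁, hc₁, z₁, hz₁⟩ := hmap U
  obtain ⟨c₂, hc₂, z₂, hz₂⟩ := hmap ↑U⁻¹
  refine ⟨p ^ i, c₁, c₂, z₁, z₂, hc₁, hc₂, IsLocalization.injective T hle ?_,
    IsLocalization.injective T hle ?_⟩
  · rw [Algebra.smul_def, Algebra.smul_def, map_mul, map_mul, ← IsScalarTower.algebraMap_apply,
      ← IsScalarTower.algebraMap_apply, hU, map_pow, ← mul_assoc, hz₁]
    exact mul_comm _ _
  · rw [Algebra.smul_def, map_mul, map_mul, ← IsScalarTower.algebraMap_apply,
      ← IsScalarTower.algebraMap_apply, hU, map_pow, ← hz₂]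
    calc algebraMap A T c₂ * P ^ i = ((U : T) * ↑U⁻¹) * (algebraMap A T c₂ * P ^ i) := by
          rw [Units.mul_inv, one_mul]
      _ = _ := by ring

variable [IsNoetherianRing A] [IsIntegrallyClosed A] [Module.Flat A B] [FaithfulSMul A B]

/-- A divisor of a nonzero constant is, near every point, a constant times a unit. -/
theorem exists_eq_mul {g h : B} {a : A} (ha : a ≠ 0) (e : g * h = algebraMap A B a)
    (hfib : ∀ (q : Ideal A) [q.IsPrime], q.height = 1 → IsDomain (q.Fiber B) ∨ Subsingleton (q.Fiber B))
    (P : Ideal B) [P.IsPrime] :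
    ∃ (b : A) (t : B), t ∉ P ∧ algebraMap A B b = g * t := by
  classical
  have hg : g ≠ 0 := by
    intro h0
    rw [h0, zero_mul] at e
    exact ha (FaithfulSMul.algebraMap_injective A B (e.symm.trans (map_zero _).symm))
  have hfin := associatedPrimes.finite A (A ⧸ Ideal.span {a})
  let S := hfin.toFinset
  have hS : ∀ q ∈ S, q.IsPrime ∧ q.height = 1 := fun q hq =>
    ⟨IsAssociatedPrime.isPrime (hfin.mem_toFinset.mp hq),
      S14359.result A a ha q (hfin.mem_toFinset.mp hq)⟩
  -- everywhere locally in `g B` implies in `g B`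
  have hsat : ∀ x : B, (∀ q ∈ S, In g q x) → ∃ t, x = g * t := by
    intro x hx
    let C : Ideal A :=
      { carrier := {c | algebraMap A B a ∣ c • (h * x)}
        add_mem' := fun hc hd => by
          simp only [Set.mem_setOf_eq, add_smul] at *
          exact dvd_add hc hd
        zero_mem' := by simp
        smul_mem' := fun r c hc => by
          simp only [Set.mem_setOf_eq, smul_eq_mul, mul_smul] at *
          rw [Algebra.smul_def r]
          exact dvd_mul_of_dvd_right hc _ }
    have hC : ¬ (C : Set A) ⊆ ⋃ q ∈ (S : Set (Ideal A)), (q : Set A) := by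
      rw [Ideal.subset_union_prime ⊤ ⊤ (fun q hq _ _ => (hS q hq).1)]
      rintro ⟨q, hq, hle⟩
      obtain ⟨c, hc, z, hz⟩ := hx q hq
      refine hc (hle ⟨z, ?_⟩)
      rw [← mul_smul_comm, hz, ← e]
      ring
    obtain ⟨c, hcC, hc⟩ := Set.not_subset.mp hC
    obtain ⟨z, hz⟩ := (hcC : algebraMap A B a ∣ c • (h * x))
    have hrel : ∑ i, (![c, -a] : Fin 2 → A) i • (![h * x, z] : Fin 2 → B) i = 0 := by
      simp [Fin.sum_univ_two, ← hz, neg_smul, Algebra.smul_def a, ← sub_eq_add_neg]
    obtain ⟨k, α, w, hw, hα⟩ := Module.Flat.isTrivialRelation_of_sum_smul_eq_zero hrel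
    have hdiv : ∀ j, ∃ r, α 0 j = a * r := fun j => by
      have h2 := hα j
      simp only [Fin.sum_univ_two, Matrix.cons_val_zero, Matrix.cons_val_one] at h2
      by_contra hno
      have hne : (Ideal.Quotient.mk (Ideal.span {a}) (α 0 j)) ≠ 0 := fun h0 => by
        obtain ⟨r, hr⟩ := Ideal.mem_span_singleton.mp (Ideal.Quotient.eq_zero_iff_mem.mp h0)
        exact hno ⟨r, hr⟩
      have hzd : c ∈ ⋃ q ∈ associatedPrimes A (A ⧸ Ideal.span {a}), (q : Set A) := by
        rw [biUnion_associatedPrimes_eq_zero_divisors]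
        refine ⟨_, hne, ?_⟩
        rw [Algebra.smul_def, Ideal.Quotient.algebraMap_eq, ← map_mul, Ideal.Quotient.eq_zero_iff_mem,
          Ideal.mem_span_singleton]
        exact ⟨α 1 j, by linear_combination h2⟩
      exact hc (by simpa [S, Set.Finite.coe_toFinset] using hzd)
    choose r hr using hdiv
    have hh : h ≠ 0 := by
      intro h0
      rw [h0, mul_zero] at e
      exact ha (FaithfulSMul.algebraMap_injective A B (e.symm.trans (map_zero _).symm))
    refine ⟨∑ j, r j • w j, mul_left_cancel₀ hh ?_⟩
    have h1 := hw 0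
    simp only [Matrix.cons_val_zero] at h1
    rw [h1, Finset.mul_sum, Finset.mul_sum]
    refine Finset.sum_congr rfl fun j _ => ?_
    rw [hr, mul_smul, Algebra.smul_def a, ← e]
    ring
  -- writing `g` with coefficients everywhere locally in `g B`
  have hgen : ∀ T : Finset (Ideal A), T ⊆ S → ∃ (k : ℕ) (b : Fin k → A) (w : Fin k → B),
      g = ∑ j, b j • w j ∧ ∀ j, ∀ q ∈ T, In g q (algebraMap A B (b j)) := by
    intro T
    induction T using Finset.induction with
    | empty => exact fun _ => ⟨1, ![1], ![g], by simp, by simp⟩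
    | @insert q T hqT ih =>
      intro hTS
      obtain ⟨k, b, w, hgw, hb⟩ := ih ((Finset.subset_insert q T).trans hTS)
      haveI := (hS q (hTS (Finset.mem_insert_self q T))).1
      obtain ⟨m, c₁, c₂, z₁, z₂, hc₁, hc₂, h₁, h₂⟩ :=
        exists_pow ha e q (hS q (hTS (Finset.mem_insert_self q T))).2
          (hfib q (hS q (hTS (Finset.mem_insert_self q T))).2)
      have hrel : ∑ o : Option (Fin k), o.elim (-m) (fun j => c₁ * b j) • o.elim z₁ w = 0 := by
        rw [Fintype.sum_option]
        simp only [Option.elim, mul_smul, ← Finset.smul_sum, ← hgw, h₁]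
        simp
      obtain ⟨k', α, v, hv, hα⟩ := Module.Flat.isTrivialRelation_of_sum_smul_eq_zero hrel
      refine ⟨k', fun l => ∑ j, b j * α (some j) l, v, ?_, fun l q' hq' => ?_⟩
      · rw [hgw]
        simp only [Finset.sum_smul]
        rw [Finset.sum_comm]
        refine Finset.sum_congr rfl fun j _ => ?_
        rw [show w j = ∑ l, α (some j) l • v l from hv (some j), Finset.smul_sum]
        exact Finset.sum_congr rfl fun l _ => (mul_smul _ _ _).symm
      · rcases Finset.mem_insert.mp hq' with rfl | hq'T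
        · have h3 := hα l
          rw [Fintype.sum_option] at h3
          simp only [Option.elim] at h3
          refine ⟨c₁ * c₂, fun hm => ((hS _ (hTS (Finset.mem_insert_self _ T))).1.mem_or_mem hm).elim hc₁ hc₂,
            α none l • z₂, ?_⟩
          have h4 : c₁ * ∑ j, b j * α (some j) l = α none l * m := by
            rw [Finset.mul_sum]
            simp only [← mul_assoc]
            linear_combination h3
          rw [Algebra.smul_def, ← map_mul, show c₁ * c₂ * ∑ j, b j * α (some j) l =
            α none l * (c₂ * m) by linear_combination c₂ * h4, map_mul, map_mul]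
          rw [Algebra.smul_def] at h₂
          rw [h₂, Algebra.smul_def]
          ring
        · haveI := (hS q' (hTS (Finset.mem_insert_of_mem hq'T))).1
          rw [map_sum]
          refine In.sum _ _ fun j _ => ?_
          rw [map_mul, mul_comm]
          exact (hb j q' hq'T).mul_left _
  obtain ⟨k, b, w, hgw, hb⟩ := hgen S le_rfl
  choose t ht using fun j => hsat _ (hb j)
  have h1 : (1 : B) = ∑ j, t j * w j := by
    refine mul_left_cancel₀ hg ?_
    rw [mul_one, Finset.mul_sum]
    refine hgw.trans (Finset.sum_congr rfl fun j _ => ?_)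
    rw [Algebra.smul_def, ht]
    ring
  by_contra hno
  push Not at hno
  refine Ideal.IsPrime.ne_top ‹_› ((Ideal.eq_top_iff_one P).mpr (h1 ▸ ?_))
  refine P.sum_mem fun j _ => P.mul_mem_right _ ?_
  by_contra hj
  exact hno (b j) (t j) hj (ht j)

end Groth.Agent.Lib.PicGen.FlatUnit
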